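import Cfsg.Agent.Lib.AschbacherSp.Extraspecial
import Cfsg.Agent.Lib.SU3Max96.Basic

set_option autoImplicit false
set_option linter.style.haveILetI false
set_option linter.unusedSectionVars false
set_option linter.unusedVariables false

/-!
Absolutely irreducible groups of matrices over a finite field: the traces decide subfields and
invariant forms.
-/

namespace Cfsg.Agent.Lib.Mitchell96

open Cfsg.Geo Cfsg.Agent.Lib.PrimeDim.Basic Cfsg.Agent.Lib.AschbacherSp
open scoped Matrix MatrixGroups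

section
variable {ι : Type} [Fintype ι] [DecidableEq ι] {F : Type*} [Field F] [Fintype F]
variable {P : Subgroup (GL ι F)}

lemma eq_zero_of_trace_mul {X : Matrix ι ι F} (h : ∀ M : Matrix ι ι F, (X * M).trace = 0) : X = 0 := by
  ext i j
  simpa [Matrix.trace_mul_single] using h (Matrix.single j i 1)

lemma span_mul_mem {a b : Matrix ι ι F} (ha : a ∈ Submodule.span F (matrixSet P))
    (hb : b ∈ Submodule.span F (matrixSet P)) : a * b ∈ Submodule.span F (matrixSet P) := by
  induction ha using Submodule.span_induction with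
  | mem a ha =>
    induction hb using Submodule.span_induction with
    | mem b hb =>
      obtain ⟨x, hx, rfl⟩ := mem_matrixSet.mp ha
      obtain ⟨y, hy, rfl⟩ := mem_matrixSet.mp hb
      exact Submodule.subset_span (mem_matrixSet.mpr ⟨x * y, mul_mem hx hy, rfl⟩)
    | zero => rw [mul_zero]; exact zero_mem _
    | add u v _ _ hu hv => rw [mul_add]; exact add_mem hu hv
    | smul c u _ hu => rw [Matrix.mul_smul]; exact Submodule.smul_mem _ c hu
  | zero => rw [zero_mul]; exact zero_mem _
  | add u v _ _ hu hv => rw [add_mul]; exact add_mem hu hv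
  | smul c u _ hu => rw [Matrix.smul_mul]; exact Submodule.smul_mem _ c hu

lemma one_mem_span : (1 : Matrix ι ι F) ∈ Submodule.span F (matrixSet P) :=
  Submodule.subset_span (mem_matrixSet.mpr ⟨1, one_mem P, rfl⟩)

/-- An absolutely irreducible group spans the algebra of all matrices. -/
theorem span_eq_top [Nonempty ι] (habs : ActsAbsolutelyIrreducibly (matrixSet P)) :
    Submodule.span F (matrixSet P) = ⊤ := by
  classical
  let S := (Submodule.span F (matrixSet P)).toSubalgebra one_mem_span (fun x y hx hy => span_mul_mem hx hy)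
  let e : Matrix ι ι F ≃ₐ[F] Module.End F (ι → F) := Matrix.toLinAlgEquiv'
  let T : Subalgebra F (Module.End F (ι → F)) := S.map e.toAlgHom
  have htop : T = ⊤ := by
    refine eq_top_of_centre T (fun X hX => ?_) fun r hr hc => ?_
    · refine irred_iff.mp habs.1 X fun g hg v hv => ?_
      have h := hX (e g.val) ⟨g.val, Submodule.subset_span (mem_matrixSet.mpr ⟨g, hg, rfl⟩), rfl⟩ v hv
      simpa [e] using h
    · obtain ⟨N, hN, rfl⟩ := hr
      obtain ⟨c, hc'⟩ := habs.2 N fun s hs => e.injective (by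
        rw [map_mul, map_mul]
        exact hc (e s) ⟨s, Submodule.subset_span hs, rfl⟩)
      refine ⟨c, ?_⟩
      show e N = c • 1
      rw [hc', map_smul, map_one]
  rw [eq_top_iff]
  intro M _
  obtain ⟨N, hN, hNM⟩ : e M ∈ T := htop ▸ Algebra.mem_top
  rw [← e.injective hNM]
  exact hN

lemma exists_trace_ne [Nonempty ι] (habs : ActsAbsolutelyIrreducibly (matrixSet P)) :
    ∃ x ∈ P, x.val.trace ≠ 0 := by
  classical
  by_contra! h
  obtain ⟨i⟩ := ‹Nonempty ι›
  have hall : ∀ M ∈ Submodule.span F (matrixSet P), Matrix.trace M = 0 := by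
    intro M hM
    induction hM using Submodule.span_induction with
    | mem a ha => obtain ⟨x, hx, rfl⟩ := mem_matrixSet.mp ha; exact h x hx
    | zero => exact Matrix.trace_zero ι F
    | add u v _ _ hu hv => rw [Matrix.trace_add, hu, hv, add_zero]
    | smul c u _ hu => rw [Matrix.trace_smul, hu, smul_zero]
  have h1 := hall (Matrix.single i i 1) (span_eq_top habs ▸ Submodule.mem_top)
  rw [Matrix.trace_single_eq_same] at h1
  exact one_ne_zero h1

/-- An absolutely irreducible group with all traces in a subfield is realisable over it. -/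
theorem realisable_of_trace [Nonempty ι] (habs : ActsAbsolutelyIrreducibly (matrixSet P)) (F₀ : Subfield F)
    (htr : ∀ x ∈ P, (x : GL ι F).val.trace ∈ F₀) : RealisableOver F₀ (matrixSet P) := by
  classical
  obtain ⟨s, hsub, hsspan, hsli⟩ := exists_linearIndependent F (matrixSet P)
  letI : Fintype s := Fintype.ofFinite _
  let R : s → Matrix ι ι F := Subtype.val
  have hli : LinearIndependent F R := hsli
  have hspan : Submodule.span F (Set.range R) = ⊤ := by
    rw [Subtype.range_coe, hsspan, span_eq_top habs]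
  have htr2 : ∀ q q' : s, (R q * R q').trace ∈ F₀ := by
    intro q q'
    obtain ⟨x, hx, hxq⟩ := mem_matrixSet.mp (hsub q.2)
    obtain ⟨y, hy, hyq⟩ := mem_matrixSet.mp (hsub q'.2)
    show (q.1 * q'.1).trace ∈ F₀
    rw [← hxq, ← hyq, ← Units.val_mul]
    exact htr _ (mul_mem hx hy)
  let L : (s → F₀) →ₗ[F₀] (s → F₀) :=
    { toFun := fun c q => ∑ r, c r * (⟨_, htr2 r q⟩ : F₀)
      map_add' := fun c d => funext fun q => by simp [add_mul, Finset.sum_add_distrib]
      map_smul' := fun a c => funext fun q => by simp [Finset.mul_sum, mul_assoc] }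
  have hall : ∀ X : Matrix ι ι F, (∀ q, (X * R q).trace = 0) → X = 0 := by
    intro X hX
    refine eq_zero_of_trace_mul fun M => ?_
    have hM : M ∈ Submodule.span F (Set.range R) := hspan ▸ Submodule.mem_top
    induction hM using Submodule.span_induction with
    | mem a ha => obtain ⟨q, rfl⟩ := ha; exact hX q
    | zero => rw [mul_zero, Matrix.trace_zero]
    | add u v _ _ hu hv => rw [mul_add, Matrix.trace_add, hu, hv, add_zero]
    | smul c u _ hu => rw [Matrix.mul_smul, Matrix.trace_smul, hu, smul_zero]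
  have hcoe : ∀ (c : s → F₀) (q : s), ((L c q : F₀) : F) = ((∑ r, (c r : F) • R r) * R q).trace := by
    intro c q
    simp [L, Finset.sum_mul, Matrix.smul_mul, Matrix.trace_sum, Matrix.trace_smul]
  have hLsurj : Function.Surjective L := by
    refine LinearMap.injective_iff_surjective.mp ?_
    rw [← LinearMap.ker_eq_bot, eq_bot_iff]
    intro c hc
    rw [Submodule.mem_bot]
    have hX : ∑ r, (c r : F) • R r = 0 := hall _ fun q => by
      rw [← hcoe, show L c = 0 from hc]; rfl
    funext r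
    exact Subtype.ext (Fintype.linearIndependent_iff.mp hli (fun r => (c r : F)) hX r)
  -- the algebra over the subfield
  let A : Submodule F₀ (Matrix ι ι F) := Submodule.span F₀ (Set.range R)
  have hxA : ∀ x ∈ P, (x : Matrix ι ι F) ∈ A := by
    intro x hx
    have ht : ∀ q, (x.val * R q).trace ∈ F₀ := fun q => by
      obtain ⟨y, hy, hyq⟩ := mem_matrixSet.mp (hsub q.2)
      show (x.val * q.1).trace ∈ F₀
      rw [← hyq, ← Units.val_mul]
      exact htr _ (mul_mem hx hy)
    obtain ⟨c, hc⟩ := hLsurj fun q => ⟨_, ht q⟩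
    have hxs : x.val = ∑ r, (c r : F) • R r := by
      rw [← sub_eq_zero]
      refine hall _ fun q => ?_
      rw [sub_mul, Matrix.trace_sub, ← hcoe, hc]
      exact sub_self _
    rw [hxs]
    exact sum_mem fun r _ => A.smul_mem (c r) (Submodule.subset_span ⟨r, rfl⟩)
  have hRA : ∀ q, ∃ x ∈ P, (x : GL ι F).val = R q := fun q => mem_matrixSet.mp (hsub q.2)
  have hmulA : ∀ a ∈ A, ∀ b ∈ A, a * b ∈ A := by
    intro a ha b hb
    induction ha using Submodule.span_induction with
    | mem a ha =>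
      obtain ⟨q, rfl⟩ := ha
      induction hb using Submodule.span_induction with
      | mem b hb =>
        obtain ⟨q', rfl⟩ := hb
        obtain ⟨x, hx, hxq⟩ := hRA q
        obtain ⟨y, hy, hyq⟩ := hRA q'
        rw [← hxq, ← hyq, ← Units.val_mul]
        exact hxA _ (mul_mem hx hy)
      | zero => rw [mul_zero]; exact zero_mem _
      | add u v _ _ hu hv => rw [mul_add]; exact add_mem hu hv
      | smul c u _ hu => rw [Matrix.mul_smul]; exact A.smul_mem c hu
    | zero => rw [zero_mul]; exact zero_mem _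
    | add u v _ _ hu hv => rw [add_mul]; exact add_mem hu hv
    | smul c u _ hu => rw [Matrix.smul_mul]; exact A.smul_mem c hu
  have h1A : (1 : Matrix ι ι F) ∈ A := by simpa using hxA 1 (one_mem P)
  have htrA : ∀ a ∈ A, ∀ y ∈ P, (a * (y : GL ι F).val).trace ∈ F₀ := by
    intro a ha y hy
    induction ha using Submodule.span_induction with
    | mem a ha =>
      obtain ⟨q, rfl⟩ := ha
      obtain ⟨x, hx, hxq⟩ := hRA q
      rw [← hxq, ← Units.val_mul]
      exact htr _ (mul_mem hx hy)
    | zero => rw [zero_mul, Matrix.trace_zero]; exact zero_mem _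
    | add u v _ _ hu hv => rw [add_mul, Matrix.trace_add]; exact add_mem hu hv
    | smul c u _ hu =>
      rw [Matrix.smul_mul, Matrix.trace_smul]
      show (c : F) * _ ∈ F₀
      exact mul_mem c.2 hu
  have hscalA : ∀ c : F, c • (1 : Matrix ι ι F) ∈ A → c ∈ F₀ := by
    intro c hc
    obtain ⟨y, hy, hy0⟩ := exists_trace_ne habs
    have h := htrA _ hc y hy
    rw [Matrix.smul_mul, one_mul, Matrix.trace_smul, smul_eq_mul] at h
    have h' := div_mem h (htr y hy)
    rwa [mul_div_assoc, div_self hy0, mul_one] at h'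
  -- a minimal invariant subspace over the subfield
  obtain ⟨L', ⟨hL0, hLi⟩, hLmin⟩ := WellFounded.has_min
    (wellFounded_lt (α := Submodule F₀ (ι → F)))
    {L | L ≠ ⊥ ∧ ∀ a ∈ A, ∀ v ∈ L, a *ᵥ v ∈ L}
    ⟨⊤, top_ne_bot, fun _ _ _ _ => Submodule.mem_top⟩
  have hLspan : Submodule.span F (L' : Set (ι → F)) = ⊤ := by
    have hinv : Invariant P (Submodule.span F (L' : Set (ι → F))) := by
      intro g hg v hv
      induction hv using Submodule.span_induction with
      | mem w hw => exact Submodule.subset_span (hLi _ (hxA g hg) w hw)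
      | zero => rw [Matrix.mulVec_zero]; exact zero_mem _
      | add u w _ _ hu hw => rw [Matrix.mulVec_add]; exact add_mem hu hw
      | smul c u _ hu => rw [Matrix.mulVec_smul]; exact Submodule.smul_mem _ c hu
    refine (irred_iff.mp habs.1 _ hinv).resolve_left fun h => hL0 ?_
    rw [eq_bot_iff]
    intro v hv
    exact (Submodule.mem_bot F).mp (h ▸ Submodule.subset_span hv)
  let ρ : A →ₗ[F₀] Module.End F₀ L' :=
    { toFun := fun a =>
        { toFun := fun v => ⟨(a : Matrix ι ι F) *ᵥ v, hLi _ a.2 _ v.2⟩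
          map_add' := fun u v => Subtype.ext (by simp [Matrix.mulVec_add])
          map_smul' := fun c v => Subtype.ext (Matrix.mulVec_smul _ (c : F) (v : ι → F)) }
      map_add' := fun a b => LinearMap.ext fun v => Subtype.ext (Matrix.add_mulVec _ _ _)
      map_smul' := fun c a => LinearMap.ext fun v => Subtype.ext (Matrix.smul_mulVec (c : F) _ _) }
  have hρinj : Function.Injective ρ := by
    intro a b hab
    refine Subtype.ext (Matrix.toLin'.injective (LinearMap.ext_on hLspan fun v hv => ?_))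
    rw [Matrix.toLin'_apply, Matrix.toLin'_apply]
    exact congrArg Subtype.val (LinearMap.congr_fun hab ⟨v, hv⟩)
  let T : Subalgebra F₀ (Module.End F₀ L') :=
    { carrier := Set.range ρ
      mul_mem' := by
        rintro _ _ ⟨a, rfl⟩ ⟨b, rfl⟩
        exact ⟨⟨_, hmulA _ a.2 _ b.2⟩, LinearMap.ext fun v => Subtype.ext (Matrix.mulVec_mulVec _ _ _).symm⟩
      one_mem' := ⟨⟨1, h1A⟩, LinearMap.ext fun v => Subtype.ext (Matrix.one_mulVec _)⟩
      add_mem' := by rintro _ _ ⟨a, rfl⟩ ⟨b, rfl⟩; exact ⟨a + b, map_add ρ a b⟩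
      zero_mem' := ⟨0, map_zero ρ⟩
      algebraMap_mem' := fun c => ⟨c • (⟨1, h1A⟩ : A), by
        rw [map_smul, Algebra.algebraMap_eq_smul_one]
        congr 1
        exact LinearMap.ext fun v => Subtype.ext (Matrix.one_mulVec _)⟩ }
  haveI : Nontrivial L' := Submodule.nontrivial_iff_ne_bot.mpr hL0
  have hirr : ∀ X : Submodule F₀ L', (∀ r ∈ T, ∀ v ∈ X, r v ∈ X) → X = ⊥ ∨ X = ⊤ := by
    intro X hX
    by_cases hb : X.map L'.subtype = ⊥
    · exact Or.inl (Submodule.map_injective_of_injective (Submodule.injective_subtype L')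
        (hb.trans (Submodule.map_bot _).symm))
    · right
      have heq : X.map L'.subtype = L' := by
        by_contra hne
        refine hLmin (X.map L'.subtype) ⟨hb, ?_⟩ (lt_of_le_of_ne (Submodule.map_subtype_le L' X) hne)
        rintro a ha _ ⟨v, hv, rfl⟩
        exact ⟨_, hX _ ⟨⟨a, ha⟩, rfl⟩ v hv, rfl⟩
      exact Submodule.map_injective_of_injective (Submodule.injective_subtype L') (heq.trans L'.map_subtype_top.symm)
  have hcen : ∀ r ∈ T, (∀ r' ∈ T, r * r' = r' * r) → ∃ c : F₀, r = c • 1 := by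
    rintro _ ⟨a, rfl⟩ hg
    obtain ⟨c, hc⟩ := habs.2 (a : Matrix ι ι F) fun m hm => by
      obtain ⟨x, hx, rfl⟩ := mem_matrixSet.mp hm
      refine Matrix.toLin'.injective (LinearMap.ext_on hLspan fun v hv => ?_)
      have h := congrArg Subtype.val (LinearMap.congr_fun (hg (ρ ⟨_, hxA x hx⟩) ⟨_, rfl⟩) ⟨v, hv⟩)
      simp only [Matrix.toLin'_apply, ← Matrix.mulVec_mulVec]
      exact h
    refine ⟨⟨c, hscalA c (hc ▸ a.2)⟩, LinearMap.ext fun v => Subtype.ext ?_⟩
    show (a : Matrix ι ι F) *ᵥ (v : ι → F) = c • (v : ι → F)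
    rw [hc, Matrix.smul_mulVec, Matrix.one_mulVec]
  have htop := eq_top_of_centre T hirr hcen
  have hρsurj : Function.Surjective ρ := fun f => by
    have h : f ∈ T := htop ▸ Algebra.mem_top
    exact h
  have hdim : Module.finrank F₀ L' = Fintype.card ι := by
    have h1 : Module.finrank F₀ A = Fintype.card s := by
      refine finrank_span_eq_card (hli.restrict_scalars ?_)
      intro a b h
      simpa using h
    have h2 : Fintype.card s = Fintype.card ι * Fintype.card ι := by
      have := finrank_span_eq_card hli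
      rw [hspan, finrank_top, Module.finrank_matrix, Module.finrank_self, mul_one] at this
      exact this.symm
    rw [(LinearEquiv.ofBijective ρ ⟨hρinj, hρsurj⟩).finrank_eq, Module.finrank_linearMap, h2] at h1
    exact Nat.mul_self_inj.mp h1
  let b := Module.finBasisOfFinrankEq F₀ L' hdim
  let ε : ι ≃ Fin (Fintype.card ι) := Fintype.equivFin ι
  let bb := b.reindex ε.symm
  let M : Matrix ι ι F := Matrix.of fun i j => ((bb j : L') : ι → F) i
  have hcolM : ∀ j, M *ᵥ Pi.single j 1 = ((bb j : L') : ι → F) := fun j => by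
    funext i
    rw [Matrix.mulVec_single_one]
    rfl
  have hexp : ∀ v : L', (v : ι → F) = M *ᵥ fun k => ((bb.repr v k : F₀) : F) := by
    intro v
    have h := congrArg Subtype.val (bb.sum_repr v)
    simp only [AddSubmonoidClass.coe_finsetSum] at h
    rw [← h]
    funext i
    simp only [Finset.sum_apply, Matrix.mulVec, dotProduct]
    exact Finset.sum_congr rfl fun k _ => mul_comm _ _
  have hMu : IsUnit M := by
    rw [← Matrix.mulVec_surjective_iff_isUnit]
    intro w
    have hw : w ∈ LinearMap.range (Matrix.toLin' M) := by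
      have hle : Submodule.span F (L' : Set (ι → F)) ≤ LinearMap.range (Matrix.toLin' M) :=
        Submodule.span_le.mpr fun v hv => ⟨fun k => ((bb.repr ⟨v, hv⟩ k : F₀) : F), by
          rw [Matrix.toLin'_apply]; exact (hexp ⟨v, hv⟩).symm⟩
      exact hle (hLspan ▸ Submodule.mem_top)
    obtain ⟨u, hu⟩ := hw
    exact ⟨u, by rw [← hu, Matrix.toLin'_apply]⟩
  obtain ⟨U, hU⟩ := hMu
  refine ⟨U⁻¹, fun m hm i j => ?_⟩
  obtain ⟨x, hx, rfl⟩ := mem_matrixSet.mp hm
  rw [inv_inv]
  have hcol : x.val *ᵥ ((bb j : L') : ι → F) = M *ᵥ _ := hexp ⟨_, hLi _ (hxA x hx) _ (bb j).2⟩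
  have h1 : ((U⁻¹).val * x.val * U.val) *ᵥ Pi.single j 1 =
      fun k => ((bb.repr ⟨_, hLi _ (hxA x hx) _ (bb j).2⟩ k : F₀) : F) := by
    rw [← Matrix.mulVec_mulVec, ← Matrix.mulVec_mulVec, hU, hcolM]
    exact (congrArg ((U⁻¹).val *ᵥ ·) hcol).trans (by rw [← hU, inv_mulVec_cancel])
  have h2 := congrFun h1 i
  rw [Matrix.mulVec_single_one, Matrix.col_apply] at h2
  rw [h2]
  exact SetLike.coe_mem _

/-- A semilinear multiplicative self-map of the matrix algebra is conjugation after a field automorphism. -/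
theorem inner_of_semilinear [Nonempty ι] (θ : F ≃+* F) (φ : Matrix ι ι F → Matrix ι ι F)
    (hadd : ∀ M N, φ (M + N) = φ M + φ N) (hsmul : ∀ (c : F) M, φ (c • M) = θ c • φ M)
    (hmul : ∀ M N, φ (M * N) = φ M * φ N) (hone : φ 1 = 1) :
    ∃ Q : GL ι F, ∀ M, φ M * Q.val = Q.val * M.map θ := by
  classical
  have hzero : φ 0 = 0 := by simpa using hsmul 0 (0 : Matrix ι ι F)
  let Φ : Matrix ι ι F →+ Matrix ι ι F := AddMonoidHom.mk' φ hadd
  obtain ⟨i₀⟩ := ‹Nonempty ι›
  let e : ι → ι → Matrix ι ι F := fun i j => φ (Matrix.single i j 1)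
  have hee : ∀ i j k l, e i j * e k l = if j = k then e i l else 0 := by
    intro i j k l
    show φ _ * φ _ = _
    rw [← hmul]
    by_cases h : j = k
    · subst h; rw [if_pos rfl, Matrix.single_mul_single_same, one_mul]
    · rw [if_neg h, Matrix.single_mul_single_of_ne (1 : F) i j k h, hzero]
  have hsum : ∑ i, e i i = 1 := by
    show ∑ i, Φ (Matrix.single i i 1) = 1
    rw [← map_sum, show ∑ i : ι, Matrix.single i i (1 : F) = 1 by
      ext a b
      by_cases hab : a = b
      · subst hab; simp [Matrix.sum_apply, Matrix.single_apply, Matrix.one_apply, Finset.sum_ite_eq']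
      · rw [Matrix.sum_apply, Matrix.one_apply_ne hab]
        exact Finset.sum_eq_zero fun c _ => by simp [Matrix.single_apply]; rintro rfl; exact hab]
    exact hone
  obtain ⟨u, hu⟩ : ∃ u, e i₀ i₀ *ᵥ u ≠ 0 := by
    by_contra! h
    have h0 : e i₀ i₀ = 0 := Matrix.ext_of_mulVec_single fun i => by rw [h, Matrix.zero_mulVec]
    have hall : ∀ i, e i i = 0 := fun i => by
      have := hee i i₀ i₀ i
      rw [if_pos rfl] at this
      rw [← this, show e i i₀ = e i i₀ * e i₀ i₀ by rw [hee, if_pos rfl], h0, mul_zero, zero_mul]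
    rw [Finset.sum_eq_zero fun i _ => hall i] at hsum
    exact zero_ne_one hsum
  set w := e i₀ i₀ *ᵥ u with hw
  let Qm : Matrix ι ι F := Matrix.of fun a i => (e i i₀ *ᵥ w) a
  have hQcol : ∀ i, Qm *ᵥ Pi.single i 1 = e i i₀ *ᵥ w := fun i => by
    funext a; rw [Matrix.mulVec_single_one]; rfl
  have hQe : ∀ j k i, e j k *ᵥ (Qm *ᵥ Pi.single i 1) = if k = i then Qm *ᵥ Pi.single j 1 else 0 := by
    intro j k i
    rw [hQcol, hQcol, Matrix.mulVec_mulVec, hee]
    by_cases h : k = i
    · rw [if_pos h, if_pos h]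
    · rw [if_neg h, if_neg h, Matrix.zero_mulVec]
  have hQv : ∀ v : ι → F, Qm *ᵥ v = ∑ i, v i • (Qm *ᵥ Pi.single i 1) := fun v => by
    conv_lhs => rw [pi_eq_sum_univ' v]
    rw [Matrix.mulVec_sum]
    simp only [Matrix.mulVec_smul]
  have hinj : Function.Injective (Matrix.mulVec Qm) := by
    intro v v' hvv
    funext k
    have h : ∀ x : ι → F, e i₀ k *ᵥ (Qm *ᵥ x) = x k • w := by
      intro x
      rw [hQv x, Matrix.mulVec_sum]
      rw [Finset.sum_eq_single k (fun i _ hi => by rw [Matrix.mulVec_smul, hQe, if_neg (Ne.symm hi), smul_zero])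
        (by simp), Matrix.mulVec_smul, hQe, if_pos rfl, hQcol]
      congr 1
      rw [hw, Matrix.mulVec_mulVec, hee, if_pos rfl]
    exact smul_left_injective F hu ((h v).symm.trans ((congrArg (e i₀ k *ᵥ ·) hvv).trans (h v')))
  obtain ⟨Q, hQ⟩ := Matrix.mulVec_injective_iff_isUnit.mp hinj
  refine ⟨Q, fun M => ?_⟩
  rw [hQ]
  refine Matrix.ext_of_mulVec_single fun i => ?_
  have hM : φ M = ∑ j, ∑ k, θ (M j k) • e j k := by
    show Φ M = _
    conv_lhs => rw [Matrix.matrix_eq_sum_single M]
    simp only [map_sum]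
    refine Finset.sum_congr rfl fun j _ => Finset.sum_congr rfl fun k _ => ?_
    show φ _ = _
    rw [show Matrix.single j k (M j k) = M j k • Matrix.single j k (1 : F) by
      rw [Matrix.smul_single, smul_eq_mul, mul_one], hsmul]
  rw [← Matrix.mulVec_mulVec, hM, Matrix.sum_mulVec]
  simp only [Matrix.sum_mulVec, Matrix.smul_mulVec, hQe, smul_ite, smul_zero, Finset.sum_ite_eq',
    Finset.mem_univ, if_true]
  rw [← Matrix.mulVec_mulVec, hQv ((M.map θ) *ᵥ Pi.single i 1)]
  refine Finset.sum_congr rfl fun j _ => ?_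
  simp only [Matrix.mulVec_single_one, Matrix.col_apply, Matrix.map_apply]

/-- An invariant sesquilinear form from the traces. -/
theorem exists_sesqui [Nonempty ι] (habs : ActsAbsolutelyIrreducibly (matrixSet P)) (θ : F ≃+* F)
    (hθ : ∀ a, θ (θ a) = a) (htr : ∀ x ∈ P, θ (x : GL ι F).val.trace = (x⁻¹).val.trace) :
    ∃ (Q : GL ι F) (c : F), (∀ x ∈ P, (x : GL ι F).valᵀ * Q.val * x.val.map θ = Q.val) ∧
      (Q.val.map θ)ᵀ = c • Q.val ∧ c * θ c = 1 := by
  classical
  obtain ⟨s, hsub, hsspan, hsli⟩ := exists_linearIndependent F (matrixSet P)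
  letI : Fintype s := Fintype.ofFinite _
  have hspan : ⊤ ≤ Submodule.span F (Set.range (Subtype.val : s → Matrix ι ι F)) := by
    rw [Subtype.range_coe, hsspan, span_eq_top habs]
  let bas : Module.Basis s F (Matrix ι ι F) := Module.Basis.mk hsli hspan
  have hbas : ∀ r : s, bas r = r.1 := fun r => Module.Basis.mk_apply hsli hspan r
  let ψ : Matrix ι ι F → Matrix ι ι F := fun M => ∑ r : s, θ (bas.repr M r) • (r.1⁻¹)ᵀ
  have hψa : ∀ M N, ψ (M + N) = ψ M + ψ N := fun M N => by
    simp [ψ, add_smul, Finset.sum_add_distrib]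
  have hψs : ∀ (c : F) M, ψ (c • M) = θ c • ψ M := fun c M => by
    simp [ψ, Finset.smul_sum, smul_smul]
  have hψ0 : ψ 0 = 0 := by simp [ψ]
  have htrψ : ∀ M, ∀ y ∈ P, (ψ M * ((y : GL ι F)⁻¹).valᵀ).trace = θ (M * y.val).trace := by
    intro M y hy
    conv_rhs => rw [← bas.sum_repr M, Finset.sum_mul, Matrix.trace_sum, map_sum]
    simp only [ψ, Finset.sum_mul, Matrix.trace_sum]
    refine Finset.sum_congr rfl fun r _ => ?_
    obtain ⟨x, hx, hxr⟩ := mem_matrixSet.mp (hsub r.2)
    rw [hbas, Matrix.smul_mul, Matrix.smul_mul, Matrix.trace_smul, Matrix.trace_smul, smul_eq_mul, smul_eq_mul,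
      map_mul, ← hxr, ← Matrix.coe_units_inv, ← Units.val_mul, htr _ (mul_mem hx hy), ← Matrix.transpose_mul,
      Matrix.trace_transpose, mul_inv_rev, Units.val_mul]
  have hψP : ∀ x ∈ P, ψ (x : GL ι F).val = (x⁻¹).valᵀ := by
    intro x hx
    rw [← sub_eq_zero]
    refine eq_zero_of_trace_mul fun M => ?_
    have hM : Mᵀ ∈ Submodule.span F (matrixSet P) := span_eq_top habs ▸ Submodule.mem_top
    rw [← Matrix.transpose_transpose M]
    generalize Mᵀ = N at hM
    induction hM using Submodule.span_induction with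
    | mem a ha =>
      obtain ⟨y, hy, rfl⟩ := mem_matrixSet.mp ha
      have h := htrψ x.val y⁻¹ (inv_mem hy)
      rw [inv_inv, ← Units.val_mul, htr _ (mul_mem hx (inv_mem hy))] at h
      rw [sub_mul, Matrix.trace_sub, h, ← Matrix.transpose_mul, Matrix.trace_transpose, mul_inv_rev, inv_inv,
        Units.val_mul, sub_self]
    | zero => rw [Matrix.transpose_zero, mul_zero, Matrix.trace_zero]
    | add u v _ _ hu hv => rw [Matrix.transpose_add, mul_add, Matrix.trace_add, hu, hv, add_zero]
    | smul c u _ hu => rw [Matrix.transpose_smul, Matrix.mul_smul, Matrix.trace_smul, hu, smul_zero]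
  have hψm : ∀ M N, ψ (M * N) = ψ M * ψ N := by
    intro M N
    have hM : M ∈ Submodule.span F (matrixSet P) := span_eq_top habs ▸ Submodule.mem_top
    have hN : N ∈ Submodule.span F (matrixSet P) := span_eq_top habs ▸ Submodule.mem_top
    induction hM using Submodule.span_induction with
    | mem a ha =>
      induction hN using Submodule.span_induction with
      | mem b hb =>
        obtain ⟨x, hx, rfl⟩ := mem_matrixSet.mp ha
        obtain ⟨y, hy, rfl⟩ := mem_matrixSet.mp hb
        rw [← Units.val_mul, hψP _ (mul_mem hx hy), hψP x hx, hψP y hy, ← Matrix.transpose_mul, ← Units.val_mul,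
          mul_inv_rev]
      | zero => rw [mul_zero, hψ0, mul_zero]
      | add u v _ _ hu hv => rw [mul_add, hψa, hψa, hu, hv, mul_add]
      | smul c u _ hu => rw [Matrix.mul_smul, hψs, hψs, hu, Matrix.mul_smul]
    | zero => rw [zero_mul, hψ0, zero_mul]
    | add u v _ _ hu hv => rw [add_mul, hψa, hψa, hu, hv, add_mul]
    | smul c u _ hu => rw [Matrix.smul_mul, hψs, hψs, hu, Matrix.smul_mul]
  obtain ⟨Q, hQ⟩ := inner_of_semilinear θ ψ hψa hψs hψm (by simpa using hψP 1 (one_mem P))
  have hinv : ∀ x ∈ P, (x : GL ι F).valᵀ * Q.val * x.val.map θ = Q.val := by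
    intro x hx
    rw [mul_assoc, ← hQ, hψP x hx, ← mul_assoc, ← Matrix.transpose_mul, Units.inv_mul, Matrix.transpose_one, one_mul]
  have hmm : ∀ M : Matrix ι ι F, (M.map θ).map θ = M := fun M => by ext i j; simp [hθ]
  have hmapmul : ∀ M N : Matrix ι ι F, (M * N).map θ = M.map θ * N.map θ := fun M N =>
    Matrix.map_mul
  set Q' : Matrix ι ι F := (Q.val.map θ)ᵀ with hQ'
  have hinv' : ∀ x ∈ P, (x : GL ι F).valᵀ * Q' * x.val.map θ = Q' := by
    intro x hx
    have h := congrArg (fun M : Matrix ι ι F => (M.map θ)ᵀ) (hinv x hx)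
    simp only [hmapmul, Matrix.transpose_mul, hmm, Matrix.transpose_map, Matrix.transpose_transpose] at h
    rw [hQ', mul_assoc]
    exact h
  set Z := (Q⁻¹).val * Q' with hZ
  have hZc : ∀ x ∈ P, Z * (x : GL ι F).val.map θ = x.val.map θ * Z := by
    intro x hx
    have e1 : ∀ G : Matrix ι ι F, x.valᵀ * G * x.val.map θ = G → G * x.val.map θ = (x⁻¹).valᵀ * G := by
      intro G hG
      conv_rhs => rw [← hG, ← mul_assoc, ← mul_assoc, ← Matrix.transpose_mul, Units.mul_inv,
        Matrix.transpose_one, one_mul]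
    rw [hZ, mul_assoc, e1 _ (hinv' x hx), ← mul_assoc, ← mul_assoc]
    congr 1
    have h := congrArg (fun M => (Q⁻¹).val * M * (Q⁻¹).val) (e1 _ (hinv x hx))
    simp only [mul_assoc, Units.inv_mul_cancel_left, Units.mul_inv, mul_one] at h
    exact h.symm
  obtain ⟨d, hd⟩ := habs.2 (Z.map θ) fun m hm => by
    obtain ⟨x, hx, rfl⟩ := mem_matrixSet.mp hm
    have h := congrArg (fun M : Matrix ι ι F => M.map θ) (hZc x hx)
    simp only [hmapmul, hmm] at h
    exact h
  have hZd : Z = θ d • 1 := by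
    rw [← hmm Z, hd]
    ext i j
    by_cases h : i = j
    · subst h; simp
    · simp [h]
  have hQc : Q' = θ d • Q.val := by
    have e : Q.val * Z = Q' := by rw [hZ, ← mul_assoc, Units.mul_inv, one_mul]
    rw [← e, hZd, Matrix.mul_smul, mul_one]
  refine ⟨Q, θ d, hinv, hQc, ?_⟩
  obtain ⟨i, j, hij⟩ : ∃ i j, Q.val i j ≠ 0 := by
    by_contra! h
    exact Q.ne_zero (Matrix.ext h)
  have h1 : θ (Q.val j i) = θ d * Q.val i j := congrFun (congrFun hQc i) j
  have h2 : θ (Q.val i j) = θ d * Q.val j i := congrFun (congrFun hQc j) i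
  have h3 := congrArg θ h2
  rw [hθ, map_mul, h1] at h3
  refine mul_right_cancel₀ hij ?_
  rw [one_mul]
  linear_combination -h3

end

variable {F : Type*} [Field F] [Fintype F] {P : Subgroup (GL (Fin 3) F)}

/-- Self-dual traces give an invariant quadratic form in odd characteristic. -/
theorem quad_of_trace (habs : ActsAbsolutelyIrreducibly (matrixSet P)) (h2 : (2 : F) ≠ 0)
    (htr : ∀ x ∈ P, (x : GL (Fin 3) F).val.trace = (x⁻¹).val.trace) :
    ∃ Q : (Fin 3 → F) → F, IsNondegenerateQuadraticForm Q ∧ FixesQuadForm (matrixSet P) Q := by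
  obtain ⟨G, c, hinv, hGc, hc⟩ := exists_sesqui habs (RingEquiv.refl F) (fun a => rfl) htr
  have hid : ∀ M : Matrix (Fin 3) (Fin 3) F, M.map (RingEquiv.refl F) = M := fun M => rfl
  simp only [hid] at hinv hGc
  have hc1 : c = 1 := by
    simp only [RingEquiv.refl_apply] at hc
    rcases mul_self_eq_one_iff.mp hc with h | h
    · exact h
    exfalso
    subst h
    have hd := congrArg Matrix.det hGc
    rw [Matrix.det_transpose, Matrix.det_smul, Fintype.card_fin] at hd
    have : (2 : F) * G.val.det = 0 := by linear_combination hd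
    exact (Matrix.isUnit_iff_isUnit_det _).mp G.isUnit |>.ne_zero ((mul_eq_zero.mp this).resolve_left h2)
  rw [hc1, one_smul] at hGc
  have hsymm : ∀ u v : Fin 3 → F, u ⬝ᵥ (G.val *ᵥ v) = v ⬝ᵥ (G.val *ᵥ u) := fun u v => by
    rw [Matrix.dotProduct_mulVec, dotProduct_comm, ← Matrix.mulVec_transpose, hGc]
  have hpolar : ∀ u v, QuadraticMap.polar (fun v : Fin 3 → F => v ⬝ᵥ (G.val *ᵥ v)) u v = 2 * (u ⬝ᵥ (G.val *ᵥ v)) := by
    intro u v
    simp only [QuadraticMap.polar, Matrix.mulVec_add, dotProduct_add, add_dotProduct]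
    linear_combination hsymm v u
  refine ⟨fun v => v ⬝ᵥ (G.val *ᵥ v), ⟨fun a v => ?_, ⟨?_, ?_, ?_, ?_⟩, fun v hv => ?_⟩, fun s hs v => ?_⟩
  · simp [Matrix.mulVec_smul, sq, mul_assoc]
  · intro x y v; simp only [hpolar, add_dotProduct, mul_add]
  · intro a x v; simp only [hpolar, smul_dotProduct, smul_eq_mul]; ring
  · intro v x y; simp only [hpolar, Matrix.mulVec_add, dotProduct_add, mul_add]
  · intro a v x; simp only [hpolar, Matrix.mulVec_smul, dotProduct_smul, smul_eq_mul]; ring
  · obtain ⟨i, hi⟩ : ∃ i, (G.val *ᵥ v) i ≠ 0 := by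
      by_contra! h
      exact hv (Matrix.mulVec_injective_of_isUnit G.isUnit (by rw [funext h, Matrix.mulVec_zero]; rfl))
    refine ⟨⟨Pi.single i 1, ?_⟩, ⟨Pi.single i 1, ?_⟩⟩
    · rw [hpolar, single_dotProduct, one_mul]; exact mul_ne_zero h2 hi
    · rw [hpolar, hsymm, single_dotProduct, one_mul]; exact mul_ne_zero h2 hi
  · obtain ⟨x, hx, rfl⟩ := mem_matrixSet.mp hs
    show (x.val *ᵥ v) ⬝ᵥ (G.val *ᵥ (x.val *ᵥ v)) = v ⬝ᵥ (G.val *ᵥ v)
    conv_rhs => rw [← hinv x hx, ← Matrix.mulVec_mulVec, ← Matrix.mulVec_mulVec, Matrix.dotProduct_mulVec v,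
      Matrix.vecMul_transpose]

/-- Traces conjugated by an involutive automorphism give an invariant unitary form. -/
theorem unitary_of_trace (habs : ActsAbsolutelyIrreducibly (matrixSet P)) (σ : F ≃+* F)
    (hne : σ ≠ RingEquiv.refl F) (hσ : ∀ a, σ (σ a) = a)
    (htr : ∀ x ∈ P, σ (x : GL (Fin 3) F).val.trace = (x⁻¹).val.trace) :
    ∃ f : (Fin 3 → F) → (Fin 3 → F) → F, IsUnitaryForm σ f ∧ FixesForm (matrixSet P) f := by
  obtain ⟨G, c, hinv, hGc, hc⟩ := exists_sesqui habs σ hσ htr
  obtain ⟨b, hb0, hb⟩ : ∃ b : F, b ≠ 0 ∧ σ b * c = b := by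
    by_contra! hall
    have key : ∀ x : F, x + c * σ x = 0 := by
      intro x
      by_contra hx
      exact hall (x + c * σ x) hx (by rw [map_add, map_mul, hσ]; linear_combination x * hc)
    have hc1 : c = -1 := by have := key 1; rw [map_one, mul_one] at this; linear_combination this
    exact hne (RingEquiv.ext fun x => by
      have := key x
      rw [hc1] at this
      show σ x = x
      linear_combination -this)
  set H : Matrix (Fin 3) (Fin 3) F := b • G.val with hH
  have hHsym : ∀ i j, σ (H i j) = H j i := by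
    intro i j
    have h : σ (G.val i j) = c * G.val j i := congrFun (congrFun hGc j) i
    simp only [hH, Matrix.smul_apply, smul_eq_mul, map_mul, h]
    linear_combination G.val j i * hb
  have hHunit : ∀ v : Fin 3 → F, H *ᵥ v = 0 → v = 0 := fun v hv => by
    rw [hH, Matrix.smul_mulVec, smul_eq_zero] at hv
    exact Matrix.mulVec_injective_of_isUnit G.isUnit (by
      rw [hv.resolve_left hb0, Matrix.mulVec_zero])
  let f : (Fin 3 → F) → (Fin 3 → F) → F := fun u v => u ⬝ᵥ (H *ᵥ fun i => σ (v i))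
  have hherm : ∀ v w, f v w = σ (f w v) := by
    intro v w
    simp only [f, dotProduct, Matrix.mulVec, map_sum, map_mul, hσ, hHsym, Finset.mul_sum]
    rw [Finset.sum_comm]
    exact Finset.sum_congr rfl fun i _ => Finset.sum_congr rfl fun j _ => by ring
  refine ⟨f, ⟨hne, hσ, fun x y v => add_dotProduct _ _ _, fun a x v => smul_dotProduct _ _ _, hherm, fun v hv => ?_⟩,
    fun s hs u v => ?_⟩
  · obtain ⟨i, hi⟩ : ∃ i, (H *ᵥ fun j => σ (v j)) i ≠ 0 := by
      by_contra! h
      refine hv (funext fun j => σ.injective ?_)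
      simpa using congrFun (hHunit _ (funext h)) j
    refine ⟨⟨Pi.single i 1, by simpa [f] using hi⟩, ⟨Pi.single i 1, ?_⟩⟩
    rw [hherm]
    intro h
    exact hi (by simpa [f] using σ.injective (h.trans (map_zero σ).symm))
  · obtain ⟨x, hx, rfl⟩ := mem_matrixSet.mp hs
    have e : (fun i => σ ((x.val *ᵥ v) i)) = x.val.map σ *ᵥ fun i => σ (v i) := by
      funext i
      simp [Matrix.mulVec, dotProduct, map_sum, map_mul]
    have e2 : x.valᵀ * H * x.val.map σ = H := by
      rw [hH, Matrix.mul_smul, Matrix.smul_mul, hinv x hx]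
    show (x.val *ᵥ u) ⬝ᵥ (H *ᵥ fun i => σ ((x.val *ᵥ v) i)) = u ⬝ᵥ (H *ᵥ fun i => σ (v i))
    conv_rhs => rw [← e2, ← Matrix.mulVec_mulVec, ← Matrix.mulVec_mulVec, Matrix.dotProduct_mulVec u,
      Matrix.vecMul_transpose]
    rw [e]

/-- Subgroups of the unitary group have conjugate traces. -/
theorem trace_of_le_GU {q : ℕ} (hF : Fintype.card F = q ^ 2) (hP : P ≤ Cfsg.GU 3 F q) :
    ∀ x ∈ P, (x : GL (Fin 3) F).val.trace ^ q = (x⁻¹).val.trace :=
  fun x hx => (Cfsg.Agent.Lib.SU3Max96.trace_inv hF (hP hx)).symm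

/-- The automorphism `x ↦ x ^ q` of the field with `q²` elements. -/
noncomputable def powQ {q : ℕ} (hF : Fintype.card F = q ^ 2) : F ≃+* F :=
  RingEquiv.ofBijective (Cfsg.Agent.Lib.Unitary.conj hF)
    (Finite.injective_iff_bijective.mp (Cfsg.Agent.Lib.Unitary.conj hF).injective)

theorem powQ_apply {q : ℕ} (hF : Fintype.card F = q ^ 2) (x : F) : powQ hF x = x ^ q :=
  Cfsg.Agent.Lib.Unitary.conj_apply hF x

theorem powQ_powQ {q : ℕ} (hF : Fintype.card F = q ^ 2) (x : F) : powQ hF (powQ hF x) = x := by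
  rw [powQ_apply, powQ_apply, Cfsg.Agent.Lib.Unitary.pow_q_q hF]

theorem powQ_ne_refl {q : ℕ} (hF : Fintype.card F = q ^ 2) : powQ hF ≠ RingEquiv.refl F := by
  intro h
  obtain ⟨μ, hμ⟩ := Cfsg.Agent.Lib.PrimeDim.UnitaryBase.exists_conj_ne hF
  exact hμ (RingEquiv.congr_fun h μ)

end Cfsg.Agent.Lib.Mitchell96
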