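import Cfsg.Agent.Lib.TransvThree.Basic
import Cfsg.Agent.Lib.PrimeDim.Symplectic
import Cfsg.Agent.S0205
import Cfsg.Agent.S0215

set_option autoImplicit false
set_option linter.style.haveILetI false
set_option linter.unusedSectionVars false
set_option linter.unusedVariables false

/-!
Subgroups of `SL 3` in characteristic two with a simple quotient by the scalars: involutions are
transvections, linked transvections are conjugate.
-/

namespace Cfsg.Agent.Lib.Mitchell96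

open Matrix Cfsg.Geo
open Cfsg.Agent.Lib.Subspaces.Transvection Cfsg.Agent.Lib.TransvThree Cfsg.Agent.Lib.PrimeDim.Basic
open Cfsg.Agent.Lib.PrimeDim.Symplectic (scalar_comm)
open scoped MatrixGroups commutatorElement

variable {F : Type*} [Field F] [Fintype F]

/-- A perfect absolutely irreducible subgroup of `SL 3` in characteristic two, simple modulo scalars. -/
structure CharTwoCore (P : Subgroup (GL (Fin 3) F)) : Prop where
  two : (2 : F) = 0
  sl : P ≤ specialLinear (Fin 3) F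
  perfect : ⁅P, P⁆ = P
  simple : IsSimpleGroup (P ⧸ (scalars (Fin 3) F).subgroupOf P)
  nonabelian : ¬ IsMulCommutative (P ⧸ (scalars (Fin 3) F).subgroupOf P)
  absIrred : ActsAbsolutelyIrreducibly (matrixSet P)

/-- `c • φ`, `c` in `E`, are all the transvections of `P` with centre `v` and axis the kernel of `φ`. -/
def Root (P : Subgroup (GL (Fin 3) F)) (E : Subfield F) (v φ : Fin 3 → F) : Prop :=
  v ≠ 0 ∧ φ ≠ 0 ∧ ∀ c : F, Tv P v (c • φ) ↔ c ∈ E

variable {P : Subgroup (GL (Fin 3) F)} {v w φ ψ : Fin 3 → F}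

lemma Root.tv {E : Subfield F} (h : Root P E v φ) : Tv P v φ := by
  simpa using (h.2.2 1).mpr (one_mem E)

lemma add_self2 (h2 : (2 : F) = 0) (x : F) : x + x = 0 := by linear_combination x * h2

lemma neg2 (h2 : (2 : F) = 0) (x : F) : -x = x := by linear_combination (-x) * h2

lemma vec_add_self (h2 : (2 : F) = 0) (x : Fin 3 → F) : x + x = 0 := funext fun i => add_self2 h2 _

lemma vec_sub_eq_add (h2 : (2 : F) = 0) (x y : Fin 3 → F) : x - y = x + y := by
  funext i
  show x i - y i = x i + y i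
  linear_combination (-(y i)) * h2

lemma sq_inj2 (h2 : (2 : F) = 0) {x y : F} (h : x * x = y * y) : x = y := by
  have : (x - y) * (x - y) = 0 := by linear_combination h + (y * y - x * y) * h2
  exact sub_eq_zero.mp (mul_self_eq_zero.mp this)

lemma tv_ne_one (hv : v ≠ 0) (hφ : φ ≠ 0) (h : φ ⬝ᵥ v = 0) : tv v φ ≠ (1 : GL (Fin 3) F) := by
  intro e
  obtain ⟨ψ, hψ⟩ := exists_dot_eq_one hφ
  rw [dotProduct_comm] at hψ
  have := congrArg (fun g : GL (Fin 3) F => g.val *ᵥ ψ) e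
  simp only [Units.val_one, one_mulVec, tv_mulVec h, hψ, one_smul, add_eq_left] at this
  exact hv this

lemma tv_sq (h2 : (2 : F) = 0) (h : φ ⬝ᵥ v = 0) : tv v φ * tv v φ = (1 : GL (Fin 3) F) := by
  rw [tv_mul_center h h, vec_add_self h2, tv_zero_right]

lemma tv_not_scalar (hv : v ≠ 0) (hφ : φ ≠ 0) (h : φ ⬝ᵥ v = 0) :
    tv v φ ∉ scalars (Fin 3) F := by
  intro hs
  obtain ⟨c, hc⟩ := (mem_scalars_iff _).mp hs
  have e := congrArg (· *ᵥ v) hc
  simp only [tv_mulVec h, h, zero_smul, add_zero, smul_mulVec, one_mulVec] at e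
  have hc1 : (c : F) = 1 := smul_left_injective F hv (by simp only [one_smul]; exact e.symm)
  exact tv_ne_one hv hφ h (Units.ext (by rw [hc, hc1, one_smul, Units.val_one]))

/-- Functionals killing two independent vectors are proportional. -/
lemma prop_of_vanish (hv : v ≠ 0) (hvw : ∀ l : F, w ≠ l • v) (hφ : φ ≠ 0)
    (h1 : φ ⬝ᵥ v = 0) (h2 : φ ⬝ᵥ w = 0) (h3 : ψ ⬝ᵥ v = 0) (h4 : ψ ⬝ᵥ w = 0) : ∃ l : F, ψ = l • φ := by
  obtain ⟨z, hz⟩ := exists_dot_eq_one hφ
  rw [dotProduct_comm] at hz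
  have hli : LinearIndependent F ![v, w] := by
    rw [LinearIndependent.pair_iff' hv]
    exact fun a ha => hvw a ha.symm
  have hli3 : LinearIndependent F ![z, v, w] := by
    have key0 : ∀ u ∈ Submodule.span F (Set.range ![v, w]), φ ⬝ᵥ u = 0 := by
      intro u hu
      clear hz
      induction hu using Submodule.span_induction with
      | mem x hx =>
        rw [Matrix.range_cons_cons_empty] at hx
        rcases hx with rfl | rfl
        · exact h1
        · exact h2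
      | zero => exact dotProduct_zero _
      | add x y _ _ hx hy => rw [dotProduct_add, hx, hy, add_zero]
      | smul c x _ hx => rw [dotProduct_smul, hx, smul_zero]
    exact linearIndependent_finCons.mpr ⟨hli, fun hm => one_ne_zero (hz.symm.trans (key0 z hm))⟩
  have hs := hli3.span_eq_top_of_card_eq_finrank (by simp)
  refine ⟨ψ ⬝ᵥ z, funext fun i => ?_⟩
  have key : ∀ x : Fin 3 → F, ψ ⬝ᵥ x = (ψ ⬝ᵥ z) * (φ ⬝ᵥ x) := by
    intro x
    have hx : x ∈ Submodule.span F (Set.range ![z, v, w]) := hs ▸ Submodule.mem_top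
    induction hx using Submodule.span_induction with
    | mem x hx =>
      obtain ⟨j, rfl⟩ := hx
      fin_cases j
      · show ψ ⬝ᵥ z = _
        simp [hz]
      · show ψ ⬝ᵥ v = _ * (φ ⬝ᵥ v)
        rw [h3, h1, mul_zero]
      · show ψ ⬝ᵥ w = _ * (φ ⬝ᵥ w)
        rw [h4, h2, mul_zero]
    | zero => simp
    | add x y _ _ hx hy => rw [dotProduct_add, dotProduct_add, hx, hy, mul_add]
    | smul c x _ hx => rw [dotProduct_smul, dotProduct_smul, hx, smul_eq_mul, smul_eq_mul, mul_left_comm]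
  simpa using key (Pi.single i 1)

/-- Commuting transvections share the centre or the axis. -/
lemma share_of_commute (hv : Tv P v φ) (hw : Tv P w ψ) (hv0 : v ≠ 0) (hφ : φ ≠ 0) (hw0 : w ≠ 0) (hψ : ψ ≠ 0)
    (hc : tv v φ * tv w ψ = tv w ψ * tv v φ) : (∃ l : F, w = l • v) ∨ (∃ l : F, ψ = l • φ) := by
  by_cases hwv : ∃ l : F, w = l • v
  · exact Or.inl hwv
  push Not at hwv
  have e : ∀ x, ((φ ⬝ᵥ w) * (ψ ⬝ᵥ x)) • v = ((ψ ⬝ᵥ v) * (φ ⬝ᵥ x)) • w := by
    intro x
    have h := congrArg (fun g : GL (Fin 3) F => g.val *ᵥ x) hc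
    simp only [gl_mul_mulVec, tv_mulVec hv.1, tv_mulVec hw.1, dotProduct_add, dotProduct_smul,
      smul_eq_mul, add_smul] at h
    have h' : x + (ψ ⬝ᵥ x) • w + (φ ⬝ᵥ x) • v + ((φ ⬝ᵥ w) * (ψ ⬝ᵥ x)) • v =
        x + (ψ ⬝ᵥ x) • w + (φ ⬝ᵥ x) • v + ((ψ ⬝ᵥ v) * (φ ⬝ᵥ x)) • w := by
      refine Eq.trans ?_ (h.trans ?_) <;> module
    exact add_left_cancel h'
  obtain ⟨z, hz⟩ := exists_dot_eq_one hψ
  rw [dotProduct_comm] at hz
  obtain ⟨y, hy⟩ := exists_dot_eq_one hφ
  rw [dotProduct_comm] at hy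
  have hφw : φ ⬝ᵥ w = 0 := by
    by_contra h
    have hz' := e z
    rw [hz, mul_one] at hz'
    by_cases h' : (ψ ⬝ᵥ v) * (φ ⬝ᵥ z) = 0
    · rw [h', zero_smul] at hz'
      exact smul_ne_zero h hv0 hz'
    · exact hwv (((ψ ⬝ᵥ v) * (φ ⬝ᵥ z))⁻¹ * (φ ⬝ᵥ w)) (by rw [mul_smul, hz', inv_smul_smul₀ h'])
  have hψv : ψ ⬝ᵥ v = 0 := by
    have hy' := e y
    rw [hφw, zero_mul, zero_smul, hy, mul_one] at hy'
    exact (smul_eq_zero.mp hy'.symm).resolve_right hw0
  exact Or.inr (prop_of_vanish hv0 hwv hφ hv.1 hφw hψv hw.1)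

/-- Involutions are transvections. -/
lemma exists_tv_of_invol2 (h2 : (2 : F) = 0) {g : GL (Fin 3) F} (hsq : g * g = 1) (hne : g ≠ 1) :
    ∃ v φ : Fin 3 → F, v ≠ 0 ∧ φ ≠ 0 ∧ φ ⬝ᵥ v = 0 ∧ g = tv v φ := by
  classical
  let N : (Fin 3 → F) →ₗ[F] (Fin 3 → F) := Matrix.toLin' g.val + LinearMap.id
  have hN : ∀ x, N x = g.val *ᵥ x + x := fun x => by simp [N]
  have hgg : ∀ x, g.val *ᵥ (g.val *ᵥ x) = x := fun x => by
    rw [← gl_mul_mulVec, hsq, Units.val_one, one_mulVec]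
  have hv2 := vec_add_self h2
  have hgx : ∀ x, g.val *ᵥ x = x + N x := fun x => by
    rw [hN, add_left_comm, hv2, add_zero]
  have hNN : ∀ x, N (N x) = 0 := by
    intro x
    rw [hN, hN, mulVec_add, hgg]
    calc x + g.val *ᵥ x + (g.val *ᵥ x + x) = (x + x) + (g.val *ᵥ x + g.val *ᵥ x) := by abel
      _ = 0 := by rw [hv2, hv2, add_zero]
  set W := LinearMap.range N with hW
  have hW1 : Module.finrank F W ≤ 1 := by
    have hle : W ≤ LinearMap.ker N := by rintro _ ⟨x, rfl⟩; exact hNN x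
    have h1 := Submodule.finrank_mono hle
    have h3 := LinearMap.finrank_range_add_finrank_ker N
    rw [Module.finrank_fin_fun, ← hW] at h3
    omega
  obtain ⟨x₀, hx₀⟩ : ∃ x, N x ≠ 0 := by
    by_contra! h
    refine hne (gl_ext fun x => ?_)
    rw [hgx, h, add_zero, Units.val_one, one_mulVec]
  set v := N x₀ with hv
  have hspan : W = Submodule.span F {v} := (Submodule.eq_of_le_of_finrank_le
    ((Submodule.span_singleton_le_iff_mem _ _).mpr (LinearMap.mem_range_self N x₀))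
    (by rw [finrank_span_singleton hx₀]; exact hW1)).symm
  have hmult : ∀ x, ∃ l : F, N x = l • v := fun x => by
    have h : N x ∈ W := LinearMap.mem_range_self N x
    rw [hspan, Submodule.mem_span_singleton] at h
    obtain ⟨l, hl⟩ := h
    exact ⟨l, hl.symm⟩
  choose l hl using hmult
  let φ : Fin 3 → F := fun i => l (Pi.single i 1)
  have hφx : ∀ x, φ ⬝ᵥ x = l x := by
    intro x
    refine smul_left_injective F hx₀ ?_
    show (φ ⬝ᵥ x) • v = l x • v
    rw [← hl]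
    conv_rhs => rw [pi_eq_sum_univ' x, map_sum]
    simp only [map_smul]
    simp only [hl, smul_smul, dotProduct, Finset.sum_smul, φ]
    exact Finset.sum_congr rfl fun i _ => by rw [mul_comm]
  have h0 : φ ⬝ᵥ v = 0 := by
    rw [hφx]
    have := hl v
    rw [hv, hNN] at this
    exact (smul_eq_zero.mp this.symm).resolve_right hx₀
  refine ⟨v, φ, hx₀, fun h => hx₀ ?_, h0, gl_ext fun x => ?_⟩
  · rw [hv, hl, ← hφx, h, zero_dotProduct, zero_smul]
  · rw [hgx, tv_mulVec h0, hφx, ← hl]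

lemma linked_ne (hv : Tv P v φ) (hl : Linked v φ w ψ) : v ≠ 0 ∧ φ ≠ 0 ∧ w ≠ 0 ∧ ψ ≠ 0 := by
  refine ⟨?_, ?_, ?_, ?_⟩ <;> rintro rfl
  · exact hl.2 (dotProduct_zero ψ)
  · exact hl.1 (zero_dotProduct w)
  · exact hl.1 (dotProduct_zero φ)
  · exact hl.2 (zero_dotProduct v)

/-- Linked transvections are exchanged by a transvection of `P`. -/
theorem exists_swap2 (h2 : (2 : F) = 0) (hv : Tv P v φ) (hw : Tv P w ψ) (hl : Linked v φ w ψ) :
    ∃ r ∈ P, ∃ k : F, k ≠ 0 ∧ k * k * (φ ⬝ᵥ w) = ψ ⬝ᵥ v ∧ r.val *ᵥ v = k • w ∧ r.val *ᵥ w = k⁻¹ • v ∧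
      φ ᵥ* (r⁻¹).val = k⁻¹ • ψ ∧ (∀ x, φ ⬝ᵥ x = 0 → ψ ⬝ᵥ x = 0 → r.val *ᵥ x = x) ∧
      ∀ η : Fin 3 → F, η ⬝ᵥ v = 0 → η ⬝ᵥ w = 0 → η ᵥ* r.val = η := by
  obtain ⟨hv0, hφ0, hw0, hψ0⟩ := linked_ne hv hl
  set t := tv v φ with ht
  set s := tv w ψ with hs
  have htP : t ∈ P := hv.2
  have hsP : s ∈ P := hw.2
  have htt : t * t = 1 := tv_sq h2 hv.1
  have hss : s * s = 1 := tv_sq h2 hw.1
  set g := t * s with hg
  have hgP : g ∈ P := mul_mem htP hsP
  have ht' : t⁻¹ = t := inv_eq_of_mul_eq_one_right htt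
  have hs' : s⁻¹ = s := inv_eq_of_mul_eq_one_right hss
  have hinv : ∀ j : ℕ, t * g ^ j * t⁻¹ = (g ^ j)⁻¹ := by
    intro j
    rw [← conj_pow, ← inv_pow]
    congr 1
    rw [hg, _root_.mul_inv_rev, hs', ← mul_assoc, htt, one_mul]
  rcases Nat.even_or_odd (orderOf g) with ⟨m, hm⟩ | ⟨m, hm⟩
  · exfalso
    have hpos : 0 < orderOf g := orderOf_pos g
    set z := g ^ m with hz
    have hzz : z * z = 1 := by rw [hz, ← pow_add, ← hm, pow_orderOf_eq_one]
    have hz1 : z ≠ 1 := fun h => pow_ne_one_of_lt_orderOf (by omega) (by omega) h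
    have hzt : t * z = z * t := by
      have h := hinv m
      rw [← hz, inv_eq_of_mul_eq_one_right hzz] at h
      calc t * z = t * z * t⁻¹ * t := by group
        _ = z * t := by rw [h]
    have hzg : g * z = z * g := ((Commute.refl g).pow_right m).eq
    have hzs : s * z = z * s := by
      have hs2 : s = t⁻¹ * g := by rw [hg]; group
      have e : t⁻¹ * g * z = z * (t⁻¹ * g) := by rw [ht', mul_assoc, hzg, ← mul_assoc, hzt, mul_assoc]
      calc s * z = t⁻¹ * g * z := congrArg (· * z) hs2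
        _ = z * (t⁻¹ * g) := e
        _ = z * s := congrArg (z * ·) hs2.symm
    obtain ⟨u, η, hu0, hη0, hη, hzu⟩ := exists_tv_of_invol2 h2 hzz hz1
    have hzT : Tv P u η := ⟨hη, hzu ▸ pow_mem hgP m⟩
    rw [hzu] at hzt hzs
    rcases share_of_commute hv hzT hv0 hφ0 hu0 hη0 hzt with ⟨l, rfl⟩ | ⟨l, rfl⟩ <;>
      rcases share_of_commute hw hzT hw0 hψ0 hu0 hη0 hzs with ⟨m', hm'⟩ | ⟨m', hm'⟩
    · have hl0 : l ≠ 0 := fun h => hu0 (by rw [h, zero_smul])
      have : v = (l⁻¹ * m') • w := by rw [mul_smul, ← hm', inv_smul_smul₀ hl0]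
      exact hl.2 (by rw [this, dotProduct_smul, hw.1, smul_zero])
    · rw [hm', smul_dotProduct, dotProduct_smul, smul_eq_mul, smul_eq_mul] at hη
      have hm0 : m' ≠ 0 := fun h => hη0 (by rw [hm', h, zero_smul])
      have hl0 : l ≠ 0 := fun h => hu0 (by rw [h, zero_smul])
      exact hl.2 ((mul_eq_zero.mp ((mul_eq_zero.mp hη).resolve_left hm0)).resolve_left hl0)
    · rw [hm', smul_dotProduct, dotProduct_smul, smul_eq_mul, smul_eq_mul] at hη
      have hm0 : m' ≠ 0 := fun h => hu0 (by rw [hm', h, zero_smul])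
      have hl0 : l ≠ 0 := fun h => hη0 (by rw [h, zero_smul])
      exact hl.1 ((mul_eq_zero.mp ((mul_eq_zero.mp hη).resolve_left hl0)).resolve_left hm0)
    · have hm0 : m' ≠ 0 := fun h => hη0 (by rw [hm', h, zero_smul])
      have : ψ = (m'⁻¹ * l) • φ := by rw [mul_smul, hm', inv_smul_smul₀ hm0]
      exact hl.2 (by rw [this, smul_dotProduct, hv.1, smul_zero])
  · set r := g ^ m * t with hr
    have hrP : r ∈ P := mul_mem (pow_mem hgP m) htP
    have hrr : r * r = 1 := by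
      calc r * r = g ^ m * (t * g ^ m * t⁻¹) * (t * t) := by rw [hr]; group
        _ = 1 := by rw [hinv, htt, mul_one, mul_inv_cancel]
    have hr' : r⁻¹ = r := inv_eq_of_mul_eq_one_right hrr
    have hrt : r * t * r⁻¹ = s := by
      rw [hr']
      have hts : s = t⁻¹ * g := by rw [hg]; group
      have hgm : g = (g ^ m)⁻¹ * (g ^ m)⁻¹ := by
        apply eq_mul_inv_of_mul_eq
        rw [eq_inv_iff_mul_eq_one]
        have h1 : g ^ (2 * m + 1) = 1 := hm ▸ pow_orderOf_eq_one g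
        rw [show 2 * m + 1 = 1 + m + m by ring, pow_add, pow_add, pow_one] at h1
        exact h1
      calc r * t * r = g ^ m * (t * t) * (g ^ m) * t := by rw [hr]; group
        _ = g ^ m * g ^ m * t⁻¹ := by rw [htt, mul_one, ht']
        _ = t⁻¹ * (t * g ^ m * t⁻¹ * (t * g ^ m * t⁻¹)) := by group
        _ = t⁻¹ * g := by rw [hinv, ← hgm]
        _ = s := hts.symm
    set v' := r.val *ᵥ v with hv'
    set φ' := φ ᵥ* (r⁻¹).val with hφ'
    have hconj : tv v' φ' = tv w ψ := by rw [← conj_tv r hv.1]; exact hrt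
    have h0 : φ' ⬝ᵥ v' = 0 := by rw [hφ', hv', vecMul_dot, hv.1]
    have hact : ∀ x, (φ' ⬝ᵥ x) • v' = (ψ ⬝ᵥ x) • w := by
      intro x
      have h := congrArg (fun g : GL (Fin 3) F => g.val *ᵥ x) hconj
      simp only [tv_mulVec h0, tv_mulVec hw.1, add_right_inj] at h
      exact h
    obtain ⟨z, hz⟩ := exists_dot_eq_one hψ0
    rw [dotProduct_comm] at hz
    have hk' := hact z
    rw [hz, one_smul] at hk'
    have hz0 : φ' ⬝ᵥ z ≠ 0 := fun h => hw0 (by rw [← hk', h, zero_smul])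
    set k := (φ' ⬝ᵥ z)⁻¹ with hk
    have hk0 : k ≠ 0 := inv_ne_zero hz0
    have hrv : v' = k • w := by rw [hk, ← hk', inv_smul_smul₀ hz0]
    have hφψ : φ' = k⁻¹ • ψ := by
      funext i
      have h := hact (Pi.single i 1)
      rw [hrv, smul_smul] at h
      have h' := smul_left_injective F hw0 h
      simp only [dotProduct_single, mul_one] at h'
      rw [Pi.smul_apply, smul_eq_mul, ← h', mul_left_comm, inv_mul_cancel₀ hk0, mul_one]
    have hrw : r.val *ᵥ w = k⁻¹ • v := by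
      have e : r.val *ᵥ v' = v := by
        rw [hv', ← gl_mul_mulVec, hrr, Units.val_one, one_mulVec]
      rw [hrv, mulVec_smul] at e
      rw [← e, inv_smul_smul₀ hk0]
    have hkk : k * k * (φ ⬝ᵥ w) = ψ ⬝ᵥ v := by
      have h := congrArg (· ⬝ᵥ v) hφψ
      simp only [hφ', hr', ← dotProduct_mulVec, ← hv', hrv, dotProduct_smul, smul_dotProduct, smul_eq_mul] at h
      rw [mul_assoc, h, mul_inv_cancel_left₀ hk0]
    have hr1 : r ≠ 1 := fun h => hl.2 (by
      rw [hv', h, Units.val_one, one_mulVec] at hrv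
      rw [hrv, dotProduct_smul, hw.1, smul_zero])
    obtain ⟨u, θ, hu0, hθ0, hθ, hru⟩ := exists_tv_of_invol2 h2 hrr hr1
    have hru' : ∀ x, r.val *ᵥ x = x + (θ ⬝ᵥ x) • u := fun x => by rw [hru, tv_mulVec hθ]
    have hev : v + (θ ⬝ᵥ v) • u = k • w := by rw [← hru', ← hv', hrv]
    have hθv : θ ⬝ᵥ v ≠ 0 := fun h => by
      rw [h, zero_smul, add_zero] at hev
      exact hl.2 (by rw [hev, dotProduct_smul, hw.1, smul_zero])
    refine ⟨r, hrP, k, hk0, hkk, hrv, hrw, hφψ, fun x hx1 hx2 => ?_, fun η hηv hηw => ?_⟩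
    · have h := congrArg (· ⬝ᵥ x) hφψ
      simp only [hφ', hr', ← dotProduct_mulVec, hru', dotProduct_add, dotProduct_smul, smul_dotProduct,
        smul_eq_mul, hx1, hx2, mul_zero, zero_add] at h
      have hφu : φ ⬝ᵥ u ≠ 0 := fun h0 => by
        have h' := congrArg (φ ⬝ᵥ ·) hev
        simp only [dotProduct_add, dotProduct_smul, hv.1, h0, smul_zero, add_zero, smul_eq_mul, mul_zero] at h'
        exact (mul_ne_zero hk0 hl.1) h'.symm
      rw [hru', (mul_eq_zero.mp h).resolve_right hφu, zero_smul, add_zero]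
    · have hηu : η ⬝ᵥ u = 0 := by
        have h' := congrArg (η ⬝ᵥ ·) hev
        simp only [dotProduct_add, dotProduct_smul, hηv, hηw, smul_zero, zero_add, smul_eq_mul, mul_zero] at h'
        exact (mul_eq_zero.mp h').resolve_left hθv
      funext i
      have h' : (η ᵥ* r.val) ⬝ᵥ Pi.single i 1 = η ⬝ᵥ Pi.single i 1 := by
        rw [← dotProduct_mulVec, hru', dotProduct_add, dotProduct_smul, hηu, smul_zero, add_zero]
      simpa using h'

/-- The parameters of linked transvections agree. -/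
lemma par_eq (h2 : (2 : F) = 0) (hv : Tv P v φ) (hw : Tv P w ψ) (hl : Linked v φ w ψ) (c : F) :
    Tv P v (c • φ) ↔ Tv P w (c • ψ) := by
  obtain ⟨r, hr, k, hk0, hkk, hrv, hrw, hφψ, -, -⟩ := exists_swap2 h2 hv hw hl
  constructor
  · intro h
    have h' := h.conj hr
    rw [smul_vecMul, hrv, hφψ, tv_smul_left_iff hk0, smul_comm k c, smul_inv_smul₀ hk0] at h'
    exact h'
  · intro h
    have h' : Tv P (k • w) (c • k⁻¹ • ψ) := by
      rw [tv_smul_left_iff hk0, smul_comm k c, smul_inv_smul₀ hk0]; exact h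
    rw [← hrv, ← hφψ, ← smul_vecMul] at h'
    have h'' := h'.conj (P.inv_mem hr)
    rwa [gl_inv_mulVec, vecMul_vecMul, ← Units.val_mul, inv_inv, inv_mul_cancel, Units.val_one, vecMul_one]
      at h''

namespace CharTwoCore

variable (hP : CharTwoCore P)
include hP

lemma irred : Irred P := irred_iff.mp hP.absIrred.1

lemma perfect_top : ⁅(⊤ : Subgroup P), (⊤ : Subgroup P)⁆ = ⊤ := by
  refine Subgroup.map_injective P.subtype_injective ?_
  rw [Subgroup.map_commutator, ← MonoidHom.range_eq_map, Subgroup.range_subtype, hP.perfect]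

lemma even_card : Even (Nat.card P) := by
  rw [← Nat.not_odd_iff_even]
  intro hodd
  haveI : Group.IsSolvable P := Cfsg.Agent.S0205.result hodd
  haveI := hP.simple
  haveI : Nontrivial (P ⧸ (scalars (Fin 3) F).subgroupOf P) := IsSimpleGroup.toNontrivial
  haveI : Nontrivial P := (QuotientGroup.mk_surjective (s := (scalars (Fin 3) F).subgroupOf P)).nontrivial
  have hlt := Group.IsSolvable.commutator_lt_top_of_nontrivial (G := P)
  rw [commutator_def, hP.perfect_top] at hlt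
  exact lt_irrefl _ hlt

/-- An element centralising `P` modulo scalars is scalar. -/
lemma scalar_of_commute_mod {z : GL (Fin 3) F}
    (h : ∀ x ∈ P, z * x * z⁻¹ * x⁻¹ ∈ scalars (Fin 3) F) : z ∈ scalars (Fin 3) F := by
  have hcm : ∀ x ∈ P, z * x * z⁻¹ = x := by
    intro x hx
    rw [← hP.perfect] at hx
    refine Subgroup.closure_induction ?_ ?_ ?_ ?_ (show x ∈ Subgroup.closure _ from hx)
    · rintro _ ⟨a, ha, b, hb, rfl⟩
      obtain ⟨c, hc, hc'⟩ : ∃ c ∈ scalars (Fin 3) F, z * a * z⁻¹ = c * a := ⟨_, h a ha, by group⟩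
      obtain ⟨d, hd, hd'⟩ : ∃ d ∈ scalars (Fin 3) F, z * b * z⁻¹ = d * b := ⟨_, h b hb, by group⟩
      rw [show z * ⁅a, b⁆ * z⁻¹ = ⁅z * a * z⁻¹, z * b * z⁻¹⁆ by simp [commutatorElement_def]; group, hc', hd',
        commutatorElement_def, commutatorElement_def]
      calc c * a * (d * b) * (c * a)⁻¹ * (d * b)⁻¹
          = c * (a * d) * b * a⁻¹ * (c⁻¹ * b⁻¹) * d⁻¹ := by group
        _ = c * d * a * b * a⁻¹ * b⁻¹ * c⁻¹ * d⁻¹ := by
          rw [← scalar_comm hd a, scalar_comm (inv_mem hc) b⁻¹]; group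
        _ = a * b * a⁻¹ * b⁻¹ := by
          have h1 := scalar_comm (mul_mem hc hd) (a * b * a⁻¹ * b⁻¹)
          calc c * d * a * b * a⁻¹ * b⁻¹ * c⁻¹ * d⁻¹ = c * d * (a * b * a⁻¹ * b⁻¹) * (c⁻¹ * d⁻¹) := by group
            _ = a * b * a⁻¹ * b⁻¹ * (c * (d * c⁻¹) * d⁻¹) := by rw [h1]; group
            _ = a * b * a⁻¹ * b⁻¹ := by rw [scalar_comm hd c⁻¹]; group
    · group
    · intro a b _ _ ha hb
      rw [show z * (a * b) * z⁻¹ = z * a * z⁻¹ * (z * b * z⁻¹) by group, ha, hb]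
    · intro a _ ha
      rw [show z * a⁻¹ * z⁻¹ = (z * a * z⁻¹)⁻¹ by group, ha]
  obtain ⟨c, hc⟩ := hP.absIrred.2 z.val fun s hs => by
    obtain ⟨x, hx, rfl⟩ := mem_matrixSet.mp hs
    have e : z * x = x * z := by
      calc z * x = z * x * z⁻¹ * z := by group
        _ = x * z := by rw [hcm x hx]
    exact congrArg Units.val e
  have hc0 : c ≠ 0 := fun h0 => z.ne_zero (by rw [hc, h0, zero_smul])
  exact (mem_scalars_iff z).mpr ⟨Units.mk0 c hc0, hc⟩

/-- A conjugation invariant subset with a non-scalar element generates `P`. -/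
lemma le_closure {S : Set (GL (Fin 3) F)} (hS : S ⊆ P) (hconj : ∀ x ∈ P, ∀ g ∈ S, x * g * x⁻¹ ∈ S)
    (hne : ∃ g ∈ S, g ∉ scalars (Fin 3) F) : P ≤ Subgroup.closure S := by
  classical
  set K := Subgroup.closure S with hK
  have hKn : ∀ x ∈ P, ∀ g ∈ K, x * g * x⁻¹ ∈ K := by
    intro x hx g hg
    induction hg using Subgroup.closure_induction with
    | mem g hg => exact Subgroup.subset_closure (hconj x hx g hg)
    | one => rw [mul_one, mul_inv_cancel]; exact one_mem _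
    | mul g g' _ _ h h' =>
      rw [show x * (g * g') * x⁻¹ = x * g * x⁻¹ * (x * g' * x⁻¹) by group]; exact mul_mem h h'
    | inv g _ h => rw [show x * g⁻¹ * x⁻¹ = (x * g * x⁻¹)⁻¹ by group]; exact inv_mem h
  haveI := hP.simple
  set Z := (scalars (Fin 3) F).subgroupOf P with hZ
  have hKnorm : (K.subgroupOf P).Normal := ⟨fun g hg x => hKn x.1 x.2 g.1 hg⟩
  rcases (Subgroup.Normal.map hKnorm (QuotientGroup.mk' Z) (QuotientGroup.mk'_surjective Z)).eq_bot_or_eq_top with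
    hb | ht
  · exfalso
    rw [Subgroup.map_eq_bot_iff, QuotientGroup.ker_mk'] at hb
    obtain ⟨g, hg, hgs⟩ := hne
    exact hgs (Subgroup.mem_subgroupOf.mp
      (hb (show (⟨g, hS hg⟩ : P) ∈ K.subgroupOf P from Subgroup.subset_closure hg)))
  · have hdec : ∀ x ∈ P, ∃ k ∈ K, k⁻¹ * x ∈ scalars (Fin 3) F := by
      intro x hx
      have hx' : ((⟨x, hx⟩ : P) : P ⧸ Z) ∈ (K.subgroupOf P).map (QuotientGroup.mk' Z) := ht ▸ Subgroup.mem_top _
      obtain ⟨n, hn, hnx⟩ := hx'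
      rw [QuotientGroup.mk'_apply, QuotientGroup.eq] at hnx
      exact ⟨n.1, hn, Subgroup.mem_subgroupOf.mp hnx⟩
    rw [← hP.perfect, Subgroup.commutator_le]
    intro x hx y hy
    obtain ⟨a, ha, hz₁⟩ := hdec x hx
    obtain ⟨b, hb, hz₂⟩ := hdec y hy
    have e : ⁅x, y⁆ = ⁅a, b⁆ := by
      rw [commutatorElement_def, commutatorElement_def]
      calc x * y * x⁻¹ * y⁻¹
          = a * ((a⁻¹ * x) * y * (a⁻¹ * x)⁻¹) * a⁻¹ * y⁻¹ := by group
        _ = a * y * a⁻¹ * y⁻¹ := by rw [scalar_comm hz₁ y, mul_inv_cancel_right]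
        _ = a * b * ((b⁻¹ * y) * a⁻¹) * (b⁻¹ * y)⁻¹ * b⁻¹ := by group
        _ = a * b * a⁻¹ * b⁻¹ := by rw [scalar_comm hz₂ a⁻¹]; group
    rw [e, commutatorElement_def]
    exact mul_mem (mul_mem (mul_mem ha hb) (inv_mem ha)) (inv_mem hb)

set_option maxHeartbeats 1600000 in
/-- Two distinct transvections share their centre or their axis. -/
theorem exists_two :
    (∃ v φ ψ : Fin 3 → F, v ≠ 0 ∧ φ ≠ 0 ∧ ψ ≠ 0 ∧ φ ≠ ψ ∧ Tv P v φ ∧ Tv P v ψ) ∨
    (∃ v w φ : Fin 3 → F, v ≠ 0 ∧ w ≠ 0 ∧ φ ≠ 0 ∧ v ≠ w ∧ Tv P v φ ∧ Tv P w φ) := by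
  classical
  by_contra hall
  haveI : Fact (Nat.Prime 2) := ⟨Nat.prime_two⟩
  obtain ⟨S⟩ : Nonempty (Sylow 2 P) := inferInstance
  have hSnt : Nontrivial S := by
    rw [← Finite.one_lt_card_iff_nontrivial, S.card_eq_multiplicity]
    have h := (Nat.Prime.dvd_iff_one_le_factorization Nat.prime_two (Nat.card_pos (α := P)).ne').mp
      hP.even_card.two_dvd
    exact Nat.one_lt_pow (by omega) one_lt_two
  haveI : Nontrivial (Subgroup.center S) := S.2.center_nontrivial
  obtain ⟨k, hk⟩ := exists_prime_orderOf_dvd_card' (G := Subgroup.center S) 2 (by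
    obtain ⟨n, hn, hcard⟩ := (S.2.to_subgroup (Subgroup.center S)).nontrivial_iff_card.mp inferInstance
    exact hcard ▸ dvd_pow_self 2 (by omega))
  set z : P := ((k : S) : P) with hz
  have hzS : z ∈ (S : Subgroup P) := (k : S).2
  have hoz : orderOf z = 2 := by rw [hz, Subgroup.orderOf_coe, Subgroup.orderOf_coe, hk]
  have invol : ∀ s : P, orderOf s = 2 → ∃ v φ : Fin 3 → F, v ≠ 0 ∧ φ ≠ 0 ∧ Tv P v φ ∧
      (s : GL (Fin 3) F) = tv v φ := by
    intro s hos
    have hs1 : (s : GL (Fin 3) F) ≠ 1 := fun h => by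
      rw [show s = 1 from Subtype.ext h, orderOf_one] at hos
      exact absurd hos (by norm_num)
    have hss : (s : GL (Fin 3) F) * s = 1 := by
      have h := pow_orderOf_eq_one s
      rw [hos, sq] at h
      exact congrArg Subtype.val h
    obtain ⟨v, φ, hv, hφ, h0, e⟩ := exists_tv_of_invol2 hP.two hss hs1
    exact ⟨v, φ, hv, hφ, ⟨h0, e ▸ s.2⟩, e⟩
  obtain ⟨a, α, ha0, hα, hza, hze⟩ := invol z hoz
  have huniq : ∀ s : P, s ∈ (S : Subgroup P) → orderOf s = 2 → s = z := by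
    intro s hs hos
    obtain ⟨w, ψ, hw0, hψ, hsw, hse⟩ := invol s hos
    have hcomm : (z : GL (Fin 3) F) * s = s * z :=
      congrArg (fun x : S => ((x : P) : GL (Fin 3) F)) (Subgroup.mem_center_iff.mp k.2 ⟨s, hs⟩).symm
    rw [hze, hse] at hcomm
    refine Subtype.ext ?_
    rw [hse, hze]
    rcases share_of_commute hza hsw ha0 hα hw0 hψ hcomm with ⟨l, rfl⟩ | ⟨l, rfl⟩
    · have hl0 : l ≠ 0 := fun h => hw0 (by rw [h, zero_smul])
      rw [tv_smul_left_iff hl0] at hsw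
      rw [tv_smul (by simpa [hl0] using hsw.1) l]
      by_contra hne
      exact hall (Or.inl ⟨a, α, l • ψ, ha0, hα, smul_ne_zero hl0 hψ, fun e => hne (by rw [e]), hza, hsw⟩)
    · have hl0 : l ≠ 0 := fun h => hψ (by rw [h, zero_smul])
      have h0 : α ⬝ᵥ w = 0 := by simpa [hl0] using hsw.1
      rw [← tv_smul_left_iff hl0] at hsw
      rw [← tv_smul h0 l]
      by_contra hne
      exact hall (Or.inr ⟨a, l • w, α, ha0, smul_ne_zero hl0 hw0, hα, fun e => hne (by rw [e]), hza, hsw⟩)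
  have hoconj : ∀ g : P, orderOf (g * z * g⁻¹) = 2 := fun g => by
    rw [← hoz, ← MulAut.conj_apply]
    exact (MulAut.conj g).orderOf_eq z
  obtain ⟨N, hNn, hNodd, hN⟩ := Cfsg.Agent.S0215.result S z hoz hzS fun g hg => huniq _ hg (hoconj g)
  haveI := hP.simple
  set Z := (scalars (Fin 3) F).subgroupOf P with hZ
  rcases (Subgroup.Normal.map hNn (QuotientGroup.mk' Z) (QuotientGroup.mk'_surjective Z)).eq_bot_or_eq_top with
    hb | ht
  · rw [Subgroup.map_eq_bot_iff, QuotientGroup.ker_mk'] at hb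
    have hzs : (z : GL (Fin 3) F) ∈ scalars (Fin 3) F :=
      hP.scalar_of_commute_mod fun x hx => Subgroup.mem_subgroupOf.mp (hb (hN ⟨x, hx⟩))
    exact tv_not_scalar ha0 hα hza.1 (hze ▸ hzs)
  · have hle : P ≤ Subgroup.closure ((N.map P.subtype : Subgroup (GL (Fin 3) F)) : Set (GL (Fin 3) F)) := by
      refine hP.le_closure ?_ ?_ ?_
      · rintro _ ⟨n, hn, rfl⟩; exact n.2
      · intro x hx g hg
        obtain ⟨n, hn, e⟩ := Subgroup.mem_map.mp (show g ∈ N.map P.subtype from hg)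
        refine Subgroup.mem_map.mpr ⟨(⟨x, hx⟩ : P) * n * (⟨x, hx⟩ : P)⁻¹, hNn.conj_mem n hn ⟨x, hx⟩, ?_⟩
        rw [map_mul, map_mul, map_inv, e, Subgroup.subtype_apply]
      · by_contra hall'
        push Not at hall'
        haveI : Nontrivial (P ⧸ Z) := IsSimpleGroup.toNontrivial
        refine (top_ne_bot (α := Subgroup (P ⧸ Z))) (ht ▸ ?_)
        rw [Subgroup.map_eq_bot_iff, QuotientGroup.ker_mk']
        exact fun n hn => Subgroup.mem_subgroupOf.mpr (hall' _ ⟨n, hn, rfl⟩)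
    rw [Subgroup.closure_eq] at hle
    have hNtop : N = ⊤ := eq_top_iff.mpr fun x _ => by
      obtain ⟨n, hn, e⟩ := hle x.2
      rwa [← show n = x from Subtype.ext e]
    rw [hNtop, Subgroup.card_top] at hNodd
    exact Nat.not_even_iff_odd.mpr hNodd hP.even_card

end CharTwoCore

end Cfsg.Agent.Lib.Mitchell96
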