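import Cfsg.Agent.Lib.Mitchell96.CharTwoLarge

set_option autoImplicit false
set_option linter.style.haveILetI false
set_option linter.unusedSectionVars false
set_option linter.unusedVariables false

/-!
Characteristic two, root groups of order two: no centre has two axes unless one of those axes has two
centres.
-/

namespace Cfsg.Agent.Lib.Mitchell96

open Matrix Cfsg.Geo
open Cfsg.Agent.Lib.Subspaces.Transvection Cfsg.Agent.Lib.TransvThree Cfsg.Agent.Lib.PrimeDim.Basic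
open scoped MatrixGroups commutatorElement

variable {F : Type*} [Field F] [Fintype F] {P : Subgroup (GL (Fin 3) F)}
variable {a c φ ψ : Fin 3 → F}

/-- No centre with two axes has on one of them a second centre. -/
def NoBoth (P : Subgroup (GL (Fin 3) F)) : Prop :=
  ∀ a c φ χ : Fin 3 → F, a ≠ 0 → φ ≠ 0 → (∀ l : F, c ≠ l • a) → (∀ l : F, χ ≠ l • φ) →
    Tv P a φ → Tv P a χ → Tv P c φ → False

/-- `a` has two axes. -/
def TwoAt (P : Subgroup (GL (Fin 3) F)) (a : Fin 3 → F) : Prop :=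
  a ≠ 0 ∧ ∃ φ χ : Fin 3 → F, φ ≠ 0 ∧ (∀ l : F, χ ≠ l • φ) ∧ Tv P a φ ∧ Tv P a χ

lemma TwoAt.partner (h : TwoAt P a) {η : Fin 3 → F} (hη : η ≠ 0) :
    ∃ χ, (∀ l : F, χ ≠ l • η) ∧ Tv P a χ := by
  obtain ⟨-, φ, χ, hφ, hind, h1, h2⟩ := h
  by_cases hp : ∃ l : F, φ = l • η
  · obtain ⟨l, hl⟩ := hp
    refine ⟨χ, fun m hm => hind (m * l⁻¹) ?_, h2⟩
    have hl0 : l ≠ 0 := fun h => hφ (by rw [hl, h, zero_smul])
    rw [hm, hl, smul_smul, mul_assoc, inv_mul_cancel₀ hl0, mul_one]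
  · push Not at hp
    exact ⟨φ, hp, h1⟩

/-- Transvections at a centre with two axes are linked to all those with other centres. -/
lemma linked_of_twoAt (hnb : NoBoth P) (ha : TwoAt P a) {η : Fin 3 → F} (hη : η ≠ 0) (h1 : Tv P a η)
    (hψ : ψ ≠ 0) (h2 : Tv P c ψ) (hc : ∀ l : F, c ≠ l • a) : Linked a η c ψ := by
  have hscale : ∀ k : F, k ≠ 0 → ∀ l : F, k • c ≠ l • a := fun k hk l e =>
    hc (k⁻¹ * l) (by rw [mul_smul, ← e, inv_smul_smul₀ hk])
  by_cases hψa : ψ ⬝ᵥ a = 0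
  · exfalso
    by_cases hηc : η ⬝ᵥ c = 0
    · obtain ⟨l, hl⟩ := prop_of_vanish ha.1 hc hη h1.1 hηc hψa h2.1
      have hl0 : l ≠ 0 := fun h => hψ (by rw [hl, h, zero_smul])
      obtain ⟨χ, hχ, hχT⟩ := ha.partner hη
      exact hnb a (l • c) η χ ha.1 hη (hscale l hl0) hχ h1 hχT ((tv_smul_left_iff hl0).mpr (hl ▸ h2))
    · have h' := h1.commutator_axis h2 hψa
      have hk : (η ⬝ᵥ c) • ψ ≠ 0 := smul_ne_zero hηc hψ
      obtain ⟨χ, hχ, hχT⟩ := ha.partner hk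
      refine hnb a ((η ⬝ᵥ c)⁻¹ • c) _ χ ha.1 hk (hscale _ (inv_ne_zero hηc)) hχ h' hχT ?_
      rw [tv_smul_left_iff (inv_ne_zero hηc), inv_smul_smul₀ hηc]
      exact h2
  · refine ⟨fun hηc => ?_, hψa⟩
    have h' := h1.commutator_centre h2 hηc
    obtain ⟨χ, hχ, hχT⟩ := ha.partner hη
    exact hnb a ((ψ ⬝ᵥ a) • c) η χ ha.1 hη (hscale _ hψa) hχ h1 hχT ((tv_smul_left_iff hψa).mpr h')

/-- Two swaps give an element fixing both centres. -/
lemma pair_map (h2 : (2 : F) = 0) {η₁ η₂ : Fin 3 → F} (h₁ : Tv P a η₁) (h₂ : Tv P a η₂) (hc : Tv P c ψ)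
    (hl₁ : Linked a η₁ c ψ) (hl₂ : Linked a η₂ c ψ) :
    ∃ D ∈ P, ∃ ε : F, ε ≠ 0 ∧ ε * ε * (η₁ ⬝ᵥ c) = η₂ ⬝ᵥ c ∧ D.val *ᵥ a = ε • a ∧ D.val *ᵥ c = ε⁻¹ • c ∧
      ∀ θ : Fin 3 → F, θ ⬝ᵥ a = 0 → θ ⬝ᵥ c = 0 → θ ᵥ* D.val = θ := by
  obtain ⟨r₁, hr₁, k₁, hk₁, e1, r1a, r1c, -, -, f1⟩ := exists_swap2 h2 h₁ hc hl₁
  obtain ⟨r₂, hr₂, k₂, hk₂, e2, r2a, r2c, -, -, f2⟩ := exists_swap2 h2 h₂ hc hl₂
  refine ⟨r₂ * r₁, mul_mem hr₂ hr₁, k₁ * k₂⁻¹, mul_ne_zero hk₁ (inv_ne_zero hk₂), ?_, ?_, ?_,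
    fun θ hθa hθc => ?_⟩
  · field_simp
    linear_combination e1 - e2
  · rw [gl_mul_mulVec, r1a, mulVec_smul, r2c, smul_smul]
  · rw [gl_mul_mulVec, r1c, mulVec_smul, r2a, smul_smul, _root_.mul_inv_rev, inv_inv, mul_comm k₂]
  · rw [Units.val_mul, ← vecMul_vecMul, f2 θ hθa hθc, f1 θ hθa hθc]

/-- The image of an element fixing the centre. -/
lemma pair_apply {η : Fin 3 → F} {D : GL (Fin 3) F} (hD : D ∈ P) {ε : F} (hε : ε ≠ 0)
    (hDa : D.val *ᵥ a = ε • a) (hη : Tv P a η) : Tv P a (ε • (η ᵥ* (D⁻¹).val)) := by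
  have h := hη.conj hD
  rwa [hDa, tv_smul_left_iff hε] at h

lemma inv_apply {D : GL (Fin 3) F} {ε : F} (hε : ε ≠ 0) {x : Fin 3 → F} (h : D.val *ᵥ x = ε • x) :
    (D⁻¹).val *ᵥ x = ε⁻¹ • x := by
  have e : (D⁻¹).val *ᵥ (D.val *ᵥ x) = x := gl_inv_mulVec D x
  rw [h, mulVec_smul] at e
  calc (D⁻¹).val *ᵥ x = ε⁻¹ • (ε • (D⁻¹).val *ᵥ x) := by rw [inv_smul_smul₀ hε]
    _ = ε⁻¹ • x := by rw [e]

/-- The values at another centre form a multiple of a subfield. -/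
theorem exists_value_field (hP : CharTwoCore P) (hnb : NoBoth P) (ha : TwoAt P a) (hφ0 : φ ≠ 0)
    (hφ : Tv P a φ) (hψ0 : ψ ≠ 0) (hc : Tv P c ψ) (hind : ∀ l : F, c ≠ l • a) :
    ∃ K : Subfield F, (∀ η, Tv P a η → (η ⬝ᵥ c) / (φ ⬝ᵥ c) ∈ K) ∧
      (∀ t ∈ K, ∃ η, Tv P a η ∧ η ⬝ᵥ c = (φ ⬝ᵥ c) * t) ∧ Nat.card K = Nat.card {η // Tv P a η} := by
  classical
  have h2 := hP.two
  have hlk : ∀ η, η ≠ 0 → Tv P a η → Linked a η c ψ := fun η h h' => linked_of_twoAt hnb ha h h' hψ0 hc hind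
  set x₀ := φ ⬝ᵥ c with hx₀
  have hx₀0 : x₀ ≠ 0 := (hlk φ hφ0 hφ).1
  have hmul : ∀ η η', Tv P a η → Tv P a η' →
      ∃ η'', Tv P a η'' ∧ η'' ⬝ᵥ c = (η ⬝ᵥ c) * (η' ⬝ᵥ c) / x₀ := by
    intro η η' hη hη'
    rcases eq_or_ne η' 0 with rfl | hη'0
    · exact ⟨0, tv_zero_mem a, by simp⟩
    obtain ⟨D, hD, ε, hε, heq, hDa, hDc, -⟩ := pair_map h2 hφ hη' hc (hlk φ hφ0 hφ) (hlk η' hη'0 hη')
    refine ⟨_, pair_apply hD hε hDa hη, ?_⟩
    rw [smul_dotProduct, ← dotProduct_mulVec, inv_apply (inv_ne_zero hε) hDc, inv_inv, dotProduct_smul,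
      smul_eq_mul, smul_eq_mul, eq_div_iff hx₀0]
    linear_combination (η ⬝ᵥ c) * heq
  have hpow : ∀ η, Tv P a η → ∀ n : ℕ, ∃ η', Tv P a η' ∧ η' ⬝ᵥ c = x₀ * ((η ⬝ᵥ c) / x₀) ^ n := by
    intro η hη n
    induction n with
    | zero => exact ⟨φ, hφ, by rw [pow_zero, mul_one]⟩
    | succ n ih =>
      obtain ⟨η', hη', e⟩ := ih
      obtain ⟨η'', hη'', e''⟩ := hmul η' η hη' hη
      exact ⟨η'', hη'', by rw [e'', e, pow_succ]; ring⟩
  let K : Subfield F :=
    { carrier := {t | ∃ η, Tv P a η ∧ η ⬝ᵥ c = x₀ * t}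
      mul_mem' := by
        rintro s t ⟨η, hη, e⟩ ⟨η', hη', e'⟩
        obtain ⟨η'', hη'', e''⟩ := hmul η η' hη hη'
        exact ⟨η'', hη'', by rw [e'', e, e']; field_simp⟩
      one_mem' := ⟨φ, hφ, (mul_one _).symm⟩
      add_mem' := by
        rintro s t ⟨η, hη, e⟩ ⟨η', hη', e'⟩
        exact ⟨η + η', hη.add hη', by rw [add_dotProduct, e, e', mul_add]⟩
      zero_mem' := ⟨0, tv_zero_mem a, by simp⟩
      neg_mem' := by
        rintro s ⟨η, hη, e⟩
        exact ⟨-η, hη.neg, by rw [neg_dotProduct, e, mul_neg]⟩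
      inv_mem' := fun t ht => by
        obtain ⟨η, hη, e⟩ := ht
        rcases eq_or_ne t 0 with rfl | ht0
        · exact ⟨0, tv_zero_mem a, by simp⟩
        · obtain ⟨η', hη', e'⟩ := hpow η hη (Fintype.card F - 2)
          refine ⟨η', hη', ?_⟩
          rw [e', e, mul_div_cancel_left₀ _ hx₀0]
          have hcard : 1 < Fintype.card F := Fintype.one_lt_card
          have e2 : t ^ (Fintype.card F - 2) * t = 1 := by
            rw [← pow_succ, show Fintype.card F - 2 + 1 = Fintype.card F - 1 by omega,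
              FiniteField.pow_card_sub_one_eq_one t ht0]
          rw [eq_inv_of_mul_eq_one_left e2] }
  have hin : ∀ η, Tv P a η → (η ⬝ᵥ c) / x₀ ∈ K := fun η hη =>
    ⟨η, hη, by rw [mul_div_cancel₀ _ hx₀0]⟩
  refine ⟨K, hin, fun t ht => ht, ?_⟩
  refine (Nat.card_congr (Equiv.ofBijective
    (fun η : {η // Tv P a η} => (⟨(η.1 ⬝ᵥ c) / x₀, hin η.1 η.2⟩ : K)) ⟨?_, ?_⟩)).symm
  · intro η η' e
    have e' : η.1 ⬝ᵥ c = η'.1 ⬝ᵥ c := by
      have := congrArg Subtype.val e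
      exact (div_left_inj' hx₀0).mp this
    refine Subtype.ext (sub_eq_zero.mp ?_)
    by_contra hne
    exact (hlk _ hne (η.2.sub η'.2)).1 (by rw [sub_dotProduct, e', sub_self])
  · rintro ⟨t, η, hη, e⟩
    exact ⟨⟨η, hη⟩, Subtype.ext (by show (η ⬝ᵥ c) / x₀ = t; rw [e, mul_div_cancel_left₀ _ hx₀0])⟩

/-- A value in the field forces the ratio of the coefficients into it. -/
lemma quad_root (h2 : (2 : F) = 0) {K : Subfield F} {g p q : F} (hg : g ∈ K) (hg0 : g ≠ 0) (hg1 : g ≠ 1)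
    (hp : p ≠ 0) (hpq : p + q ≠ 0) (hk : (p * (g * g) + q * g) / (p + q) ∈ K) :
    q / p ∈ K ∧ p * (q / p * (q / p)) + q * (q / p) = 0 := by
  have hgg : g * g + g ≠ 0 := by
    intro h
    have : g * (g + 1) = 0 := by linear_combination h
    exact hg1 (by linear_combination (mul_eq_zero.mp this).resolve_left hg0 - h2)
  have hpK : p / (p + q) ∈ K := by
    have e : p / (p + q) = ((p * (g * g) + q * g) / (p + q) + g) / (g * g + g) := by
      rw [eq_div_iff hgg, div_mul_eq_mul_div, div_add' _ _ _ hpq]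
      congr 1
      linear_combination (-(q * g)) * h2
    rw [e]
    exact div_mem (add_mem hk hg) (add_mem (mul_mem hg hg) hg)
  refine ⟨?_, ?_⟩
  · have hqK : q / (p + q) ∈ K := by
      have e : q / (p + q) = 1 - p / (p + q) := by rw [one_sub_div hpq, add_sub_cancel_left]
      rw [e]
      exact sub_mem (one_mem K) hpK
    have := div_mem hqK hpK
    rwa [div_div_div_cancel_right₀ hpq] at this
  · have e : p * (q / p * (q / p)) = q * (q / p) := by rw [← mul_assoc, mul_div_cancel₀ _ hp]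
    rw [e]
    linear_combination (q * (q / p)) * h2

set_option maxHeartbeats 800000 in
/-- Root groups of order two: no point has two axes. -/
theorem point_small (hP : CharTwoCore P)
    (hsmall : ∀ (v φ : Fin 3 → F) (c : F), v ≠ 0 → φ ≠ 0 → Tv P v φ → Tv P v (c • φ) → c = 0 ∨ c = 1)
    (hnb : NoBoth P) (ha : TwoAt P a) : False := by
  classical
  have h2 := hP.two
  obtain ⟨ha0, φ, χ, hφ0, hind, hφ, hχ⟩ := id ha
  obtain ⟨b, ψ, hb, hlb⟩ := exists_linked_to hP ha0 hφ0 hφ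
  obtain ⟨-, -, hb0, hψ0⟩ := linked_ne hφ hlb
  have hba : ∀ l : F, b ≠ l • a := fun l e => hlb.1 (by rw [e, dotProduct_smul, hφ.1, smul_zero])
  have hlkb : ∀ η, η ≠ 0 → Tv P a η → Linked a η b ψ := fun η h h' => linked_of_twoAt hnb ha h h' hψ0 hb hba
  obtain ⟨K, hKin, hKex, hKcard⟩ := exists_value_field hP hnb ha hφ0 hφ hψ0 hb hba
  set x₀ := φ ⬝ᵥ b with hx₀
  have hx₀0 : x₀ ≠ 0 := hlb.1
  have hinj : ∀ η η', Tv P a η → Tv P a η' → η ⬝ᵥ b = η' ⬝ᵥ b → η = η' := by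
    intro η η' hη hη' e
    by_contra hne
    exact (hlkb _ (sub_ne_zero.mpr hne) (hη.sub hη')).1 (by rw [sub_dotProduct, e, sub_self])
  -- an element of the field other than zero and one
  obtain ⟨g, hg, hg0, hg1⟩ : ∃ g ∈ K, g ≠ 0 ∧ g ≠ 1 := by
    refine ⟨_, hKin χ hχ, ?_, fun e => ?_⟩
    · refine div_ne_zero (hlkb χ (fun h => hind 0 (by rw [h, zero_smul])) hχ).1 hx₀0
    · rw [div_eq_one_iff_eq hx₀0] at e
      exact hind 1 (by rw [one_smul]; exact hinj χ φ hχ hφ e)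
  -- a basis and the functional killing `a`, `b`
  have hW : Submodule.span F ({a, b} : Set (Fin 3 → F)) ≠ ⊤ := fun h => by
    have h1 := finrank_span_finset_le_card (R := F) ({a, b} : Finset (Fin 3 → F))
    rw [Set.finrank, Finset.coe_insert, Finset.coe_singleton, h, finrank_top, Module.finrank_fin_fun] at h1
    exact absurd (h1.trans Finset.card_le_two) (by norm_num)
  obtain ⟨d, -, hd⟩ := SetLike.exists_of_lt (lt_top_iff_ne_top.mpr hW)
  obtain ⟨θ, hθW, hθd⟩ := exists_functional hd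
  have hθa : θ ⬝ᵥ a = 0 := hθW a (Submodule.subset_span (by simp))
  have hθb : θ ⬝ᵥ b = 0 := hθW b (Submodule.subset_span (by simp))
  have hli : LinearIndependent F ![d, a, b] := by
    refine linearIndependent_finCons.mpr ⟨?_, ?_⟩
    · rw [LinearIndependent.pair_iff' ha0]
      exact fun l hl => hba l hl.symm
    · rw [Matrix.range_cons_cons_empty]; exact hd
  -- the values at `d`
  let ev : ∀ t : F, Fin 3 → F := fun t =>
    if h : t ∈ K then (hKex t h).choose else 0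
  have hev : ∀ t ∈ K, Tv P a (ev t) ∧ ev t ⬝ᵥ b = x₀ * t := fun t ht => by
    simp only [ev, dif_pos ht]; exact (hKex t ht).choose_spec
  let y : F → F := fun t => ev t ⬝ᵥ d
  have hy1 : y 1 = φ ⬝ᵥ d := by
    have e := hev 1 (one_mem K)
    show ev 1 ⬝ᵥ d = _
    rw [hinj _ φ e.1 hφ (by rw [e.2, mul_one])]
  have hstep : ∀ e ∈ K, e ≠ 0 → ∃ β : F, ∀ t ∈ K, y (e * e * t) = e * y t + β * t := by
    intro e he he0
    obtain ⟨hη₂, hη₂b⟩ := hev (e * e) (mul_mem he he)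
    have hη₂0 : ev (e * e) ≠ 0 := fun h => by
      rw [h, zero_dotProduct] at hη₂b
      exact mul_ne_zero hx₀0 (mul_ne_zero he0 he0) hη₂b.symm
    obtain ⟨D, hD, ε, hε, heq, hDa, hDb, hfix⟩ := pair_map h2 hφ hη₂ hb hlb (hlkb _ hη₂0 hη₂)
    have hεe : ε = e := by
      refine sq_inj2 h2 (mul_right_cancel₀ hx₀0 ?_)
      rw [← hx₀] at heq
      rw [heq, hη₂b, mul_comm]
    have hs := hli.span_eq_top_of_card_eq_finrank (by simp)
    obtain ⟨r, hr⟩ := (Submodule.mem_span_range_iff_exists_fun F).mp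
      (show (D⁻¹).val *ᵥ d ∈ Submodule.span F (Set.range ![d, a, b]) from hs ▸ Submodule.mem_top)
    rw [Fin.sum_univ_three] at hr
    have hr' : r 0 • d + r 1 • a + r 2 • b = (D⁻¹).val *ᵥ d := hr
    have hr0 : r 0 = 1 := by
      have h := congrArg (θ ⬝ᵥ ·) hr'
      simp only [dotProduct_add, dotProduct_smul, hθa, hθb, hθd, smul_eq_mul, mul_one, mul_zero, add_zero] at h
      rw [h, dotProduct_mulVec]
      conv_lhs => rw [← hfix θ hθa hθb]
      rw [vecMul_vecMul, ← Units.val_mul, mul_inv_cancel, Units.val_one, vecMul_one, hθd]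
    refine ⟨e * r 2 * x₀, fun t ht => ?_⟩
    obtain ⟨hη, hηb⟩ := hev t ht
    have hη' := pair_apply hD hε hDa hη
    have hb' : (ε • (ev t ᵥ* (D⁻¹).val)) ⬝ᵥ b = x₀ * (e * e * t) := by
      rw [smul_dotProduct, ← dotProduct_mulVec, inv_apply (inv_ne_zero hε) hDb, inv_inv, dotProduct_smul,
        hηb, hεe, smul_eq_mul, smul_eq_mul]
      ring
    obtain ⟨hη'', hη''b⟩ := hev (e * e * t) (mul_mem (mul_mem he he) ht)
    show ev (e * e * t) ⬝ᵥ d = _
    rw [hinj _ _ hη'' hη' (hη''b.trans hb'.symm), smul_dotProduct, ← dotProduct_mulVec, ← hr', hr0, one_smul,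
      dotProduct_add, dotProduct_add, dotProduct_smul, dotProduct_smul, hη.1, hηb, hεe]
    simp only [smul_eq_mul, y]
    ring
  have hgg : g * g + g ≠ 0 := by
    intro h
    have : g * (g + 1) = 0 := by linear_combination h
    exact hg1 (by linear_combination (mul_eq_zero.mp this).resolve_left hg0 - h2)
  set A := (y (g * g) + g * g * y 1) / (g * g + g) with hA
  set B := (y (g * g) + g * y 1) / (g * g + g) with hB
  have hAg : A * (g * g + g) = y (g * g) + g * g * y 1 := div_mul_cancel₀ _ hgg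
  have hBg : B * (g * g + g) = y (g * g) + g * y 1 := div_mul_cancel₀ _ hgg
  have hform : ∀ e ∈ K, e ≠ 0 → y (e * e) = B * (e * e) + A * e := by
    intro e he he0
    obtain ⟨β, hβ⟩ := hstep e he he0
    obtain ⟨β', hβ'⟩ := hstep g hg hg0
    have p1 := hβ 1 (one_mem K)
    have p2 := hβ' 1 (one_mem K)
    have p3 := hβ (g * g) (mul_mem hg hg)
    have p4 := hβ' (e * e) (mul_mem he he)
    rw [mul_one] at p1 p2
    rw [mul_comm (g * g) (e * e)] at p4
    refine mul_right_cancel₀ hgg ?_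
    linear_combination p4 - p3 + g * g * p1 - e * e * p2 - (e * e) * hBg - e * hAg +
      (g * y (e * e) - y (g * g) * e - g * e * e * y 1) * h2
  set Λ := φ + A • θ with hΛ
  have hΛa : Λ ⬝ᵥ a = 0 := by rw [hΛ, add_dotProduct, smul_dotProduct, hφ.1, hθa, smul_zero, add_zero]
  have hΛb : Λ ⬝ᵥ b = x₀ := by rw [hΛ, add_dotProduct, smul_dotProduct, hθb, smul_zero, add_zero]
  have hone : y 1 = B + A := by
    have := hform 1 (one_mem K) one_ne_zero
    rwa [mul_one, mul_one, mul_one] at this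
  have hΛd : Λ ⬝ᵥ d = B := by
    rw [hΛ, add_dotProduct, smul_dotProduct, hθd, ← hy1, hone, smul_eq_mul, mul_one]
    linear_combination A * h2
  have hevΛ : ∀ e ∈ K, e ≠ 0 → ev (e * e) = (e * e) • Λ + (A * e) • θ := by
    intro e he he0
    obtain ⟨hη, hηb⟩ := hev (e * e) (mul_mem he he)
    refine eq_of_basis hli ?_ ?_ ?_
    · show y (e * e) = _
      rw [hform e he he0, add_dotProduct, smul_dotProduct, smul_dotProduct, hΛd, hθd, smul_eq_mul, smul_eq_mul]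
      ring
    · rw [hη.1, add_dotProduct, smul_dotProduct, smul_dotProduct, hΛa, hθa, smul_zero, smul_zero, add_zero]
    · rw [hηb, add_dotProduct, smul_dotProduct, smul_dotProduct, hΛb, hθb, smul_zero, add_zero, smul_eq_mul,
        mul_comm]
  have hA0 : A ≠ 0 := by
    intro hA0
    have ht := hKin χ hχ
    haveI : Finite K := inferInstance
    obtain ⟨e, he, hee⟩ : ∃ e ∈ K, e * e = (χ ⬝ᵥ b) / x₀ := by
      have hchar : ringChar K = 2 := CharP.ringChar_of_prime_eq_zero Nat.prime_two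
        (Subtype.ext (by show ((2 : ℕ) : F) = 0; exact_mod_cast h2))
      obtain ⟨e, he⟩ := FiniteField.isSquare_of_char_two hchar (⟨_, ht⟩ : K)
      exact ⟨e.1, e.2, congrArg Subtype.val he.symm⟩
    rcases eq_or_ne e 0 with he0 | he0
    · rw [he0, mul_zero, eq_comm, div_eq_zero_iff] at hee
      exact (hlkb χ (fun h => hind 0 (by rw [h, zero_smul])) hχ).1 (hee.resolve_right hx₀0)
    · have e1 := hev (e * e) (mul_mem he he)
      have e2 : χ = ev (e * e) := hinj _ _ hχ e1.1 (by rw [e1.2, hee, mul_div_cancel₀ _ hx₀0])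
      rw [hevΛ e he he0, hΛ, hA0, zero_smul, add_zero, zero_mul, zero_smul, add_zero] at e2
      exact hind _ e2
  -- every other centre is on one of two lines
  have hdich : ∀ c η, η ≠ 0 → Tv P c η → (∀ l : F, c ≠ l • a) → Λ ⬝ᵥ c = 0 ∨ θ ⬝ᵥ c = 0 := by
    intro c η hη0 hη hca
    obtain ⟨K', hK'in, -, hK'card⟩ := exists_value_field hP hnb ha hφ0 hφ hη0 hη hca
    have hKK : K' = K := by
      obtain ⟨p, f, _, _, hf, hFp⟩ := Cfsg.Agent.Lib.PrimeDim.Fields.exists_char_card (F := F)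
      obtain ⟨e₁, he₁, -, hc₁, hf₁⟩ := Cfsg.Agent.Lib.PrimeDim.Fields.card_subfield K hFp
      obtain ⟨e₂, he₂, -, hc₂, hf₂⟩ := Cfsg.Agent.Lib.PrimeDim.Fields.card_subfield K' hFp
      have : e₁ = e₂ := Nat.pow_right_injective (Fact.out : p.Prime).two_le
        (show p ^ e₁ = p ^ e₂ by rw [← hc₁, ← hc₂, hKcard, hK'card])
      rw [hf₁, hf₂, this]
    set p := Λ ⬝ᵥ c with hp
    set q := A * (θ ⬝ᵥ c) with hq
    have hval : ∀ e ∈ K, e ≠ 0 → ev (e * e) ⬝ᵥ c = p * (e * e) + q * e := fun e he he0 => by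
      rw [hevΛ e he he0, add_dotProduct, smul_dotProduct, smul_dotProduct, smul_eq_mul, smul_eq_mul, hp, hq]
      ring
    have hnz : ∀ e ∈ K, e ≠ 0 → p * (e * e) + q * e ≠ 0 := fun e he he0 => by
      have h := hev (e * e) (mul_mem he he)
      rw [← hval e he he0]
      refine (linked_of_twoAt hnb ha (fun h0 => ?_) h.1 hη0 hη hca).1
      have := h.2
      rw [h0, zero_dotProduct] at this
      exact mul_ne_zero hx₀0 (mul_ne_zero he0 he0) this.symm
    have hx₁ : φ ⬝ᵥ c = p + q := by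
      have h := hval 1 (one_mem K) one_ne_zero
      rw [mul_one, mul_one, mul_one] at h
      rw [← h, hinj _ φ (hev 1 (one_mem K)).1 hφ (by rw [(hev 1 (one_mem K)).2, mul_one])]
    have hpq : p + q ≠ 0 := by
      have := hnz 1 (one_mem K) one_ne_zero
      rwa [mul_one, mul_one, mul_one] at this
    by_contra hne
    push Not at hne
    have hq0 : q ≠ 0 := mul_ne_zero hA0 hne.2
    have hk : (p * (g * g) + q * g) / (p + q) ∈ K := by
      have := hK'in _ (hev (g * g) (mul_mem hg hg)).1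
      rwa [hval g hg hg0, hx₁, hKK] at this
    obtain ⟨he, hzero⟩ := quad_root h2 hg hg0 hg1 hne.1 hpq hk
    exact hnz (q / p) he (div_ne_zero hq0 hne.1) hzero
  obtain ⟨c₀, ψ₀, hc₀0, hψ₀0, hc₀, hc₀θ⟩ :=
    Cfsg.Agent.Lib.TransvThree.exists_centre_notMem hP.irred ⟨a, φ, ha0, hφ0, hφ⟩
      (W := LinearMap.ker (dotProductEquiv F (Fin 3) θ)) (fun h => by
        have : d ∈ LinearMap.ker (dotProductEquiv F (Fin 3) θ) := h ▸ Submodule.mem_top
        simp [hθd] at this)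
  have hθc₀ : θ ⬝ᵥ c₀ ≠ 0 := fun h => hc₀θ (by simpa using h)
  have hΛc₀ : Λ ⬝ᵥ c₀ = 0 := (hdich c₀ ψ₀ hψ₀0 hc₀ fun l e => hθc₀ (by
    rw [e, dotProduct_smul, hθa, smul_zero])).resolve_right hθc₀
  -- `b` has two axes
  have hb2 : TwoAt P b := by
    obtain ⟨r, hr, k, hk0, -, hra, -, -, -, -⟩ := exists_swap2 h2 hφ hb hlb
    refine ⟨hb0, k • (φ ᵥ* (r⁻¹).val), k • (χ ᵥ* (r⁻¹).val), smul_ne_zero hk0 fun h => hφ0 ?_,
      fun l hl => hind l ?_, ?_, ?_⟩
    · have := congrArg (· ᵥ* r.val) h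
      simpa [vecMul_vecMul, ← Units.val_mul] using this
    · rw [smul_comm l k] at hl
      have := congrArg (· ᵥ* r.val) (smul_right_injective _ hk0 hl)
      simp only [smul_vecMul, vecMul_vecMul, ← Units.val_mul, inv_mul_cancel, Units.val_one, vecMul_one] at this
      exact this
    · have := hφ.conj hr; rwa [hra, tv_smul_left_iff hk0] at this
    · have := hχ.conj hr; rwa [hra, tv_smul_left_iff hk0] at this
  have hl₀ := linked_of_twoAt hnb hb2 hψ0 hb hψ₀0 hc₀ fun l e => hθc₀ (by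
    rw [e, dotProduct_smul, hθb, smul_zero])
  have hc' := hb.conjTv hc₀
  have hθc' : θ ⬝ᵥ (b + (ψ₀ ⬝ᵥ b) • c₀) ≠ 0 := by
    rw [dotProduct_add, dotProduct_smul, hθb, zero_add]
    exact mul_ne_zero hl₀.2 hθc₀
  have hψ' : ψ - (ψ ⬝ᵥ c₀) • ψ₀ ≠ 0 := fun h => hψ0 (by
    have e : ψ = (ψ ⬝ᵥ c₀) • ψ₀ := sub_eq_zero.mp h
    have h' := hb.1
    rw [e, smul_dotProduct, smul_eq_mul] at h'
    rw [e, (mul_eq_zero.mp h').resolve_right hl₀.2, zero_smul])
  have := (hdich _ _ hψ' hc' fun l e => hθc' (by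
    rw [e, dotProduct_smul, hθa, smul_zero])).resolve_right hθc'
  rw [dotProduct_add, dotProduct_smul, hΛb, hΛc₀, smul_zero, add_zero] at this
  exact hx₀0 this

end Cfsg.Agent.Lib.Mitchell96
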