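import Cfsg.Agent.Lib.Mitchell96.CharTwoUnitary
import Cfsg.Agent.Lib.Mitchell96.CharTwoPoint

set_option autoImplicit false
set_option linter.style.haveILetI false
set_option linter.unusedSectionVars false
set_option linter.unusedVariables false

/-!
Subgroups of `SL 3` in characteristic two, simple modulo scalars: the reduction to a transvection with a
second axis and a second centre.
-/

namespace Cfsg.Agent.Lib.Mitchell96

open Matrix Cfsg.Geo
open Cfsg.Agent.Lib.Subspaces.Transvection Cfsg.Agent.Lib.TransvThree Cfsg.Agent.Lib.PrimeDim.Basic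
open scoped MatrixGroups commutatorElement

variable {F : Type*} [Field F] [Fintype F] {P : Subgroup (GL (Fin 3) F)}

/-- All cases but the one with root groups of order two and a transvection with two axes and two centres. -/
theorem char_two_cases (hP : CharTwoCore P) :
    specialLinear (Fin 3) F ≤ P ∨ (∃ F₀ : Subfield F, F₀ ≠ ⊤ ∧ RealisableOver F₀ (matrixSet P)) ∨
      (∃ (σ : F ≃+* F) (f : (Fin 3 → F) → (Fin 3 → F) → F), IsUnitaryForm σ f ∧ FixesForm (matrixSet P) f) ∨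
      ((∀ (v φ : Fin 3 → F) (c : F), v ≠ 0 → φ ≠ 0 → Tv P v φ → Tv P v (c • φ) → c = 0 ∨ c = 1) ∧
        ∃ a c φ χ : Fin 3 → F, a ≠ 0 ∧ φ ≠ 0 ∧ (∀ l : F, c ≠ l • a) ∧ (∀ l : F, χ ≠ l • φ) ∧
          Tv P a φ ∧ Tv P a χ ∧ Tv P c φ) := by
  classical
  have h2 := hP.two
  by_cases hsmall : ∀ (v φ : Fin 3 → F) (c : F), v ≠ 0 → φ ≠ 0 → Tv P v φ → Tv P v (c • φ) → c = 0 ∨ c = 1
  swap
  · push Not at hsmall
    obtain ⟨v, φ, c, hv, hφ, hT, hTc, hc0, hc1⟩ := hsmall
    obtain ⟨E, hE⟩ := exists_root hP hv hφ hT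
    rcases large_case hP hE ⟨c, (hE.2.2 c).mp hTc, hc0, hc1⟩ with h | h | h
    · exact Or.inl h
    · exact Or.inr (Or.inl h)
    · exact Or.inr (Or.inr (Or.inl h))
  by_cases hnb : NoBoth P
  swap
  · simp only [NoBoth] at hnb
    push Not at hnb
    obtain ⟨a, c, φ, χ, ha, hφ, hc, hχ, h1, h3, h4, -⟩ := hnb
    exact Or.inr (Or.inr (Or.inr ⟨hsmall, a, c, φ, χ, ha, hφ, hc, hχ, h1, h3, h4⟩))
  exfalso
  rcases hP.exists_two with ⟨v, φ, ψ, hv, hφ, hψ, hne, h1, h1'⟩ | ⟨v, w, φ, hv, hw, hφ, hne, h1, h1'⟩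
  · refine point_small hP hsmall hnb ⟨hv, φ, ψ, hφ, fun l hl => ?_, h1, h1'⟩
    rcases hsmall v φ l hv hφ h1 (hl ▸ h1') with e | e
    · exact hψ (by rw [hl, e, zero_smul])
    · exact hne (by rw [hl, e, one_smul])
  · refine point_small hP.contra (a := φ) ?_ ?_
      ⟨hφ, v, w, hv, fun l hl => ?_, (tv_contra h2).mpr h1, (tv_contra h2).mpr h1'⟩
    · intro x η k hx hη hT hTk
      rcases eq_or_ne k 0 with hk | hk
      · exact Or.inl hk
      rw [tv_contra h2] at hT hTk
      rw [tv_smul_left_iff hk] at hTk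
      exact hsmall η x k hη hx hT hTk
    · intro A C Φ X hA hΦ hC hX t1 t2 t3
      rw [tv_contra h2] at t1 t2 t3
      exact hnb Φ X A C hΦ hA hX hC t1 t3 t2
    · rcases eq_or_ne l 0 with e | e
      · exact hw (by rw [hl, e, zero_smul])
      · rw [hl, tv_smul_left_iff e] at h1'
        rcases hsmall v φ l hv hφ h1 h1' with e' | e'
        · exact e e'
        · exact hne (by rw [hl, e', one_smul])

end Cfsg.Agent.Lib.Mitchell96
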