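import Cfsg.Agent.Lib.Mitchell96.CharTwoBasic

set_option autoImplicit false
set_option linter.style.haveILetI false
set_option linter.unusedSectionVars false
set_option linter.unusedVariables false

/-!
The contragredient group: centres and axes change places.
-/

namespace Cfsg.Agent.Lib.Mitchell96

open Matrix Cfsg.Geo
open Cfsg.Agent.Lib.Subspaces.Transvection Cfsg.Agent.Lib.TransvThree Cfsg.Agent.Lib.PrimeDim.Basic
open scoped MatrixGroups commutatorElement

variable {F : Type*} [Field F] [Fintype F]

/-- Transpose inverse, as a map. -/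
def contraFun (g : GL (Fin 3) F) : GL (Fin 3) F :=
  ⟨(g⁻¹).valᵀ, g.valᵀ, by rw [← transpose_mul, Units.mul_inv, transpose_one],
    by rw [← transpose_mul, Units.inv_mul, transpose_one]⟩

lemma contraFun_contraFun (g : GL (Fin 3) F) : contraFun (contraFun g) = g :=
  Units.ext (transpose_transpose g.val)

/-- Transpose inverse, as an automorphism. -/
def contraGL (F : Type*) [Field F] [Fintype F] : GL (Fin 3) F ≃* GL (Fin 3) F where
  toFun := contraFun
  invFun := contraFun
  left_inv := contraFun_contraFun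
  right_inv := contraFun_contraFun
  map_mul' a b := Units.ext (by
    show ((a * b)⁻¹).valᵀ = (a⁻¹).valᵀ * (b⁻¹).valᵀ
    rw [_root_.mul_inv_rev, Units.val_mul, transpose_mul])

/-- The contragredient subgroup. -/
def contra (P : Subgroup (GL (Fin 3) F)) : Subgroup (GL (Fin 3) F) :=
  P.map (contraGL F).toMonoidHom

variable {P : Subgroup (GL (Fin 3) F)}

lemma contraGL_val (g : GL (Fin 3) F) : (contraGL F g).val = (g⁻¹).valᵀ := rfl

lemma contraGL_inv_val (g : GL (Fin 3) F) : ((contraGL F g)⁻¹).val = g.valᵀ := rfl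

lemma mem_contra {g : GL (Fin 3) F} : g ∈ contra P ↔ contraGL F g ∈ P := by
  constructor
  · rintro ⟨x, hx, rfl⟩
    have e : contraGL F ((contraGL F).toMonoidHom x) = x := contraFun_contraFun x
    rwa [e]
  · exact fun h => ⟨_, h, contraFun_contraFun g⟩

lemma contraGL_tv {v φ : Fin 3 → F} (h2 : (2 : F) = 0) (h : φ ⬝ᵥ v = 0) : contraGL F (tv v φ) = tv φ v := by
  refine Units.ext ?_
  rw [contraGL_val, inv_eq_of_mul_eq_one_right (tv_sq h2 h), coe_tv h, coe_tv (by rw [dotProduct_comm]; exact h),
    transpose_add, transpose_one, transpose_vecMulVec]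

/-- Centres and axes change places. -/
lemma tv_contra (h2 : (2 : F) = 0) {v φ : Fin 3 → F} : Tv (contra P) φ v ↔ Tv P v φ := by
  unfold Tv
  rw [dotProduct_comm v φ]
  refine and_congr_right fun h => ?_
  rw [mem_contra, contraGL_tv h2 (by rw [dotProduct_comm]; exact h)]

lemma root_contra (h2 : (2 : F) = 0) {E : Subfield F} {v φ : Fin 3 → F} (h : Root P E v φ) :
    Root (contra P) E φ v := by
  refine ⟨h.2.1, h.1, fun c => ?_⟩
  rw [tv_contra h2]
  rcases eq_or_ne c 0 with rfl | hc
  · simp only [zero_smul, zero_mem, iff_true]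
    exact ⟨dotProduct_zero φ, by rw [tv_zero_left]; exact P.one_mem⟩
  · rw [tv_smul_left_iff hc, h.2.2]

lemma contraGL_scalars {g : GL (Fin 3) F} (hg : g ∈ scalars (Fin 3) F) :
    contraGL F g ∈ scalars (Fin 3) F := by
  obtain ⟨c, hc⟩ := (mem_scalars_iff _).mp (inv_mem hg)
  exact (mem_scalars_iff _).mpr ⟨c, by rw [contraGL_val, hc, transpose_smul, transpose_one]⟩

lemma realisable_contra {F₀ : Subfield F} (h : RealisableOver F₀ (matrixSet (contra P))) :
    RealisableOver F₀ (matrixSet P) := by
  obtain ⟨B, hB⟩ := h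
  refine ⟨contraGL F B, fun s hs i j => ?_⟩
  obtain ⟨x, hx, rfl⟩ := mem_matrixSet.mp hs
  have hmem : contraGL F x⁻¹ ∈ contra P := Subgroup.mem_map_of_mem _ (inv_mem hx)
  have h' := hB _ (mem_matrixSet.mpr ⟨_, hmem, rfl⟩) j i
  rw [contraGL_val, inv_inv] at h'
  rw [contraGL_val, contraGL_inv_val]
  have e : (B⁻¹).valᵀ * x.val * B.valᵀ = (B.val * x.valᵀ * (B⁻¹).val)ᵀ := by
    rw [transpose_mul, transpose_mul, transpose_transpose, mul_assoc]
  rw [e]
  exact h'

lemma specialLinear_contra (h : specialLinear (Fin 3) F ≤ contra P) : specialLinear (Fin 3) F ≤ P := by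
  intro g hg
  have hg' : contraGL F g ∈ specialLinear (Fin 3) F := by
    rw [mem_specialLinear_iff, contraGL_val, det_transpose]
    exact (mem_specialLinear_iff g⁻¹).mp (inv_mem hg)
  have := mem_contra.mp (h hg')
  have e : contraGL F (contraGL F g) = g := contraFun_contraFun g
  rwa [e] at this

lemma CharTwoCore.contra (hP : CharTwoCore P) : CharTwoCore (Mitchell96.contra P) := by
  set Z := (scalars (Fin 3) F).subgroupOf P with hZ
  let e : P ≃* Mitchell96.contra P := (contraGL F).subgroupMap P
  have he : ∀ x : P, (e x : GL (Fin 3) F) = contraGL F x := fun x => rfl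
  have hmap : Z.map e.toMonoidHom = (scalars (Fin 3) F).subgroupOf (Mitchell96.contra P) := by
    ext y
    constructor
    · rintro ⟨x, hx, rfl⟩
      exact Subgroup.mem_subgroupOf.mpr (by
        show (e x : GL (Fin 3) F) ∈ _
        rw [he]; exact contraGL_scalars (Subgroup.mem_subgroupOf.mp hx))
    · intro hy
      refine ⟨e.symm y, Subgroup.mem_subgroupOf.mpr ?_, e.apply_symm_apply y⟩
      have h := contraGL_scalars (Subgroup.mem_subgroupOf.mp hy)
      have e' : contraGL F (y : GL (Fin 3) F) = (e.symm y : GL (Fin 3) F) := by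
        conv_lhs => rw [← e.apply_symm_apply y, he]
        exact contraFun_contraFun _
      rwa [e'] at h
  let q := QuotientGroup.congr Z _ e hmap
  haveI := hP.simple
  refine ⟨hP.two, ?_, ?_, q.symm.isSimpleGroup, ?_, ?_, ?_⟩
  · rintro _ ⟨x, hx, rfl⟩
    show contraGL F x ∈ _
    rw [mem_specialLinear_iff, contraGL_val, det_transpose]
    exact (mem_specialLinear_iff x⁻¹).mp (inv_mem (hP.sl hx))
  · show ⁅P.map _, P.map _⁆ = P.map _
    rw [← Subgroup.map_commutator, hP.perfect]
  · intro hc
    refine hP.nonabelian ⟨⟨fun a b => ?_⟩⟩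
    have := hc.is_comm.comm (q a) (q b)
    rw [← map_mul, ← map_mul] at this
    exact q.injective this
  · intro W hW
    set Wd : Submodule F (Fin 3 → F) :=
      { carrier := {x | ∀ y ∈ W, y ⬝ᵥ x = 0}
        add_mem' := fun {a b} ha hb y hy => by rw [dotProduct_add, ha y hy, hb y hy, add_zero]
        zero_mem' := fun y _ => dotProduct_zero y
        smul_mem' := fun c a ha y hy => by rw [dotProduct_smul, ha y hy, smul_zero] } with hWd
    have hinv : Invariant P Wd := by
      intro g hg x hx y hy
      rw [dotProduct_mulVec]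
      have hmem : contraGL F g⁻¹ ∈ Mitchell96.contra P := Subgroup.mem_map_of_mem _ (inv_mem hg)
      have h' := hW _ (mem_matrixSet.mpr ⟨_, hmem, rfl⟩)
      have h'' : (contraGL F g⁻¹).val *ᵥ y ∈ W := h' ⟨y, hy, rfl⟩
      rw [contraGL_val, inv_inv, mulVec_transpose] at h''
      exact hx _ h''
    rcases hP.irred Wd hinv with h | h
    · right
      rw [eq_top_iff]
      intro x _
      by_contra hxW
      obtain ⟨η, hη, hηx⟩ := exists_functional hxW
      have : η ∈ Wd := fun y hy => by rw [dotProduct_comm]; exact hη y hy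
      rw [h, Submodule.mem_bot] at this
      rw [this, zero_dotProduct] at hηx
      exact zero_ne_one hηx
    · left
      rw [eq_bot_iff]
      intro y hy
      rw [Submodule.mem_bot]
      funext i
      have hi : (Pi.single i 1 : Fin 3 → F) ∈ Wd := h ▸ Submodule.mem_top
      simpa using hi y hy
  · intro M hM
    obtain ⟨c, hc⟩ := hP.absIrred.2 Mᵀ fun s hs => by
      obtain ⟨x, hx, rfl⟩ := mem_matrixSet.mp hs
      have hmem : contraGL F x⁻¹ ∈ Mitchell96.contra P := Subgroup.mem_map_of_mem _ (inv_mem hx)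
      have h := congrArg Matrix.transpose (hM _ (mem_matrixSet.mpr ⟨_, hmem, rfl⟩))
      rw [transpose_mul, transpose_mul, contraGL_val, inv_inv, transpose_transpose] at h
      exact h.symm
    exact ⟨c, by rw [← transpose_transpose M, hc, transpose_smul, transpose_one]⟩

end Cfsg.Agent.Lib.Mitchell96
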