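import Cfsg.Agent.Lib.Mitchell96.CharTwoBasic
import Cfsg.Agent.Lib.PrimeDim.Fields

set_option autoImplicit false
set_option linter.style.haveILetI false
set_option linter.unusedSectionVars false
set_option linter.unusedVariables false

/-!
Characteristic two, root groups with more than two elements: the field of parameters, tori, triangles,
and a centre with two axes.
-/

namespace Cfsg.Agent.Lib.Mitchell96

open Matrix Cfsg.Geo
open Cfsg.Agent.Lib.Subspaces.Transvection Cfsg.Agent.Lib.TransvThree Cfsg.Agent.Lib.PrimeDim.Basic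
open Cfsg.Agent.Lib.PrimeDim.Fields (scalar_entry_mem)
open scoped MatrixGroups commutatorElement

variable {F : Type*} [Field F] [Fintype F] {P : Subgroup (GL (Fin 3) F)} {E : Subfield F}
variable {v w φ ψ : Fin 3 → F}

lemma Root.mem (h : Root P E v φ) {c : F} (hc : c ∈ E) : Tv P v (c • φ) := (h.2.2 c).mpr hc

lemma Root.dot (h : Root P E v φ) : φ ⬝ᵥ v = 0 := h.tv.1

lemma Root.smul_axis (h : Root P E v φ) {e : F} (he : e ∈ E) (he0 : e ≠ 0) : Root P E v (e • φ) := by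
  refine ⟨h.1, smul_ne_zero he0 h.2.1, fun c => ?_⟩
  rw [smul_smul, h.2.2]
  refine ⟨fun hc => ?_, fun hc => mul_mem hc he⟩
  have := div_mem hc he
  rwa [mul_div_cancel_right₀ _ he0] at this

lemma Root.smul_centre (h : Root P E v φ) {l : F} (hl : l ≠ 0) : Root P E (l • v) (l⁻¹ • φ) := by
  refine ⟨smul_ne_zero hl h.1, smul_ne_zero (inv_ne_zero hl) h.2.1, fun c => ?_⟩
  rw [tv_smul_left_iff hl, smul_comm l c, smul_inv_smul₀ hl, h.2.2]

lemma Root.conj (h : Root P E v φ) {g : GL (Fin 3) F} (hg : g ∈ P) :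
    Root P E (g.val *ᵥ v) (φ ᵥ* (g⁻¹).val) := by
  refine ⟨fun e => h.1 (gl_mulVec_injective g (e.trans (mulVec_zero _).symm)), fun e => h.2.1 ?_, fun c => ?_⟩
  · have := congrArg (· ᵥ* g.val) e
    simpa [vecMul_vecMul, ← Units.val_mul] using this
  · rw [← h.2.2, ← smul_vecMul]
    constructor
    · intro h'
      have h'' := h'.conj (P.inv_mem hg)
      rwa [gl_inv_mulVec, vecMul_vecMul, ← Units.val_mul, inv_inv, inv_mul_cancel, Units.val_one, vecMul_one]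
        at h''
    · exact fun h' => h'.conj hg

lemma Root.of_linked (h2 : (2 : F) = 0) (h : Root P E v φ) (hw : Tv P w ψ) (hl : Linked v φ w ψ) :
    Root P E w ψ :=
  ⟨(linked_ne h.tv hl).2.2.1, (linked_ne h.tv hl).2.2.2, fun c => by rw [← par_eq h2 h.tv hw hl, h.2.2]⟩

/-- Conjugating by a transvection, in characteristic two. -/
lemma Root.conjTv2 (h2 : (2 : F) = 0) (h : Root P E v φ) (hw : Tv P w ψ) :
    Root P E (v + (ψ ⬝ᵥ v) • w) (φ + (φ ⬝ᵥ w) • ψ) := by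
  have := h.conj hw.2
  rwa [tv_mulVec hw.1, vecMul_tv_inv hw.1, vec_sub_eq_add h2] at this

/-- Every transvection has a linked partner. -/
lemma exists_linked_to (hP : CharTwoCore P) (hv0 : v ≠ 0) (hφ : φ ≠ 0) (hv : Tv P v φ) :
    ∃ w ψ, Tv P w ψ ∧ Linked v φ w ψ := by
  have h2 := hP.two
  have hirr := hP.irred
  have hT : HasTv P := ⟨v, φ, hv0, hφ, hv⟩
  obtain ⟨u, η, hu0, hη0, hu, hηv⟩ := exists_axis_ne hirr hT hv0
  let K : Submodule F (Fin 3 → F) := LinearMap.ker (dotProductEquiv F (Fin 3) φ)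
  have hK : K ≠ ⊤ := by
    intro h
    apply hφ
    funext i
    have : Pi.single i 1 ∈ K := by rw [h]; trivial
    simpa [K] using this
  obtain ⟨w, ψ, hw0, hψ0, hw, hwK⟩ := Cfsg.Agent.Lib.TransvThree.exists_centre_notMem hirr hT hK
  have hφw : φ ⬝ᵥ w ≠ 0 := fun h => hwK (by simpa [K] using h)
  by_cases hψv : ψ ⬝ᵥ v = 0
  · by_cases hφu : φ ⬝ᵥ u = 0
    · by_cases hψu : ψ ⬝ᵥ u = 0
      · exfalso
        have huv : ∀ l : F, u ≠ l • v := by
          intro l hl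
          have hl0 : l ≠ 0 := fun h => hu0 (by rw [hl, h, zero_smul])
          have := hu.1
          rw [hl, dotProduct_smul, smul_eq_mul] at this
          exact hηv ((mul_eq_zero.mp this).resolve_left hl0)
        obtain ⟨l, hl⟩ := prop_of_vanish hv0 huv hψ0 hψv hψu hv.1 hφu
        exact hφw (by rw [hl, smul_dotProduct, hw.1, smul_zero])
      · have h' := hw.conjTv hu
        refine ⟨_, _, h', ?_, ?_⟩
        · rwa [dotProduct_add, dotProduct_smul, hφu, smul_zero, add_zero]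
        · rw [sub_dotProduct, smul_dotProduct, hψv, zero_sub, neg_ne_zero]
          exact mul_ne_zero hψu hηv
    · exact ⟨u, η, hu, hφu, hηv⟩
  · exact ⟨w, ψ, hw, hφw, hψv⟩

/-- A root group with at least three elements has a field of parameters. -/
theorem exists_root (hP : CharTwoCore P) (hv0 : v ≠ 0) (hφ : φ ≠ 0) (hv : Tv P v φ) :
    ∃ E : Subfield F, Root P E v φ := by
  classical
  have h2 := hP.two
  obtain ⟨w, ψ, hw, hl⟩ := exists_linked_to hP hv0 hφ hv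
  have hmul : ∀ a c : F, Tv P v (a • φ) → Tv P v (c • φ) → Tv P v ((c * a) • φ) := by
    intro a c ha hc
    rcases eq_or_ne a 0 with rfl | ha0
    · rw [mul_zero, zero_smul]; exact tv_zero_mem v
    have hl' : Linked v (a • φ) w ψ := ⟨by rw [smul_dotProduct]; exact mul_ne_zero ha0 hl.1, hl.2⟩
    rw [← smul_smul, par_eq h2 ha hw hl', ← par_eq h2 hv hw hl]
    exact hc
  have h1 : Tv P v ((1 : F) • φ) := by rwa [one_smul]
  have hpow : ∀ a : F, Tv P v (a • φ) → ∀ n : ℕ, Tv P v ((a ^ n) • φ) := by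
    intro a ha n
    induction n with
    | zero => rw [pow_zero]; exact h1
    | succ n ih => rw [pow_succ']; exact hmul _ _ ih ha
  let E : Subfield F :=
    { carrier := {c | Tv P v (c • φ)}
      mul_mem' := fun {x y} hx hy => hmul y x hy hx
      one_mem' := h1
      add_mem' := fun {x y} hx hy => by
        show Tv P v ((x + y) • φ)
        rw [add_smul]; exact Tv.add hx hy
      zero_mem' := by
        show Tv P v ((0 : F) • φ)
        rw [zero_smul]; exact tv_zero_mem v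
      neg_mem' := fun {x} hx => by
        show Tv P v ((-x) • φ)
        rw [neg_smul]; exact Tv.neg hx
      inv_mem' := fun x hx => by
        show Tv P v (x⁻¹ • φ)
        rcases eq_or_ne x 0 with rfl | hx0
        · rw [_root_.inv_zero, zero_smul]; exact tv_zero_mem v
        · have h := hpow x hx (Fintype.card F - 2)
          have hcard : 1 < Fintype.card F := Fintype.one_lt_card
          have e : x ^ (Fintype.card F - 2) * x = 1 := by
            rw [← pow_succ, show Fintype.card F - 2 + 1 = Fintype.card F - 1 by omega,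
              FiniteField.pow_card_sub_one_eq_one x hx0]
          rwa [eq_inv_of_mul_eq_one_left e] at h }
  exact ⟨E, hv0, hφ, fun c => Iff.rfl⟩

/-- The torus of a linked pair. -/
theorem exists_torus (h2 : (2 : F) = 0) (hv : Root P E v φ) (hw : Root P E w ψ) (hl : Linked v φ w ψ) {e : F}
    (he : e ∈ E) (he0 : e ≠ 0) :
    ∃ D ∈ P, D.val *ᵥ v = e⁻¹ • v ∧ D.val *ᵥ w = e • w ∧
      ∀ x, φ ⬝ᵥ x = 0 → ψ ⬝ᵥ x = 0 → D.val *ᵥ x = x := by
  obtain ⟨r₁, hr₁, k₁, hk₁, e1, r1v, r1w, -, f1, -⟩ := exists_swap2 h2 hv.tv hw.tv hl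
  have hl' : Linked v φ w ((e * e) • ψ) :=
    ⟨hl.1, by rw [smul_dotProduct]; exact mul_ne_zero (mul_ne_zero he0 he0) hl.2⟩
  obtain ⟨r₂, hr₂, k₂, hk₂, e2, r2v, r2w, -, f2, -⟩ := exists_swap2 h2 hv.tv (hw.mem (mul_mem he he)) hl'
  have hk : k₂ = e * k₁ := by
    refine sq_inj2 h2 (mul_right_cancel₀ hl.1 ?_)
    rw [e2, smul_dotProduct, smul_eq_mul, ← e1]; ring
  refine ⟨r₂ * r₁, mul_mem hr₂ hr₁, ?_, ?_, fun x hx1 hx2 => ?_⟩
  · rw [gl_mul_mulVec, r1v, mulVec_smul, r2w, smul_smul, hk, _root_.mul_inv_rev, ← mul_assoc,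
      mul_inv_cancel₀ hk₁, one_mul]
  · rw [gl_mul_mulVec, r1w, mulVec_smul, r2v, smul_smul, hk, mul_comm e k₁, inv_mul_cancel_left₀ hk₁]
  · rw [gl_mul_mulVec, f1 x hx1 hx2, f2 x hx1 (by rw [smul_dotProduct, hx2, smul_zero])]

/-- Products of roots lie in the field. -/
theorem mu_mem (h2 : (2 : F) = 0) (hk : ∃ e ∈ E, e ≠ 0 ∧ e ≠ 1) (hv : Root P E v φ) (hw : Root P E w ψ) :
    (φ ⬝ᵥ w) * (ψ ⬝ᵥ v) ∈ E := by
  by_cases hl : Linked v φ w ψ
  swap
  · rcases not_and_or.mp hl with h | h <;> rw [not_not] at h <;> simp [h, zero_mem]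
  obtain ⟨e, he, he0, he1⟩ := hk
  set p := φ ⬝ᵥ w with hp
  set q := ψ ⬝ᵥ v with hq
  have hp0 : p ≠ 0 := hl.1
  have hq0 : q ≠ 0 := hl.2
  obtain ⟨D, hD, Dv, Dw, Df⟩ := exists_torus h2 hv hw hl he he0
  have hv' := hv.conjTv2 h2 hw.tv
  rw [← hp, ← hq] at hv'
  have hl' : Linked v φ (v + q • w) (φ + p • ψ) := by
    refine ⟨?_, ?_⟩
    · rw [dotProduct_add, dotProduct_smul, hv.dot, zero_add, ← hp]
      exact mul_ne_zero hq0 hp0
    · rw [add_dotProduct, smul_dotProduct, hv.dot, zero_add, ← hq]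
      exact mul_ne_zero hp0 hq0
  obtain ⟨D', hD', Dv', Dw', Df'⟩ := exists_torus h2 hv hv' hl' he he0
  have hDi : ∀ {x y : Fin 3 → F}, D.val *ᵥ x = y → (D⁻¹).val *ᵥ y = x := fun h => by
    rw [← h, gl_inv_mulVec]
  have hDiv : (D⁻¹).val *ᵥ v = e • v := by
    have h := hDi Dv
    rw [mulVec_smul] at h
    calc (D⁻¹).val *ᵥ v = e • (e⁻¹ • (D⁻¹).val *ᵥ v) := by rw [smul_inv_smul₀ he0]
      _ = e • v := by rw [h]
  have hDiw : (D⁻¹).val *ᵥ w = e⁻¹ • w := by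
    have h := hDi Dw
    rw [mulVec_smul] at h
    calc (D⁻¹).val *ᵥ w = e⁻¹ • (e • (D⁻¹).val *ᵥ w) := by rw [inv_smul_smul₀ he0]
      _ = e⁻¹ • w := by rw [h]
  set c := (1 + e⁻¹ * e⁻¹) / (q * p) with hc
  have hgv : (D' * D⁻¹).val *ᵥ v = v := by
    rw [gl_mul_mulVec, hDiv, mulVec_smul, Dv', smul_inv_smul₀ he0]
  have hgw : (D' * D⁻¹).val *ᵥ w = w + (c * p) • v := by
    rw [gl_mul_mulVec, hDiw, mulVec_smul]
    have h := Dw'
    rw [mulVec_add, mulVec_smul, Dv'] at h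
    have e' : D'.val *ᵥ w = q⁻¹ • (e • (v + q • w) - e⁻¹ • v) := by
      rw [← h, add_sub_cancel_left, inv_smul_smul₀ hq0]
    rw [e', hc]
    funext i
    simp only [Pi.smul_apply, Pi.add_apply, Pi.sub_apply, smul_eq_mul]
    field_simp
    linear_combination (-(v i)) * h2
  have h0 : (c • φ) ⬝ᵥ v = 0 := by rw [smul_dotProduct, hv.dot, smul_zero]
  have hg : D' * D⁻¹ = tv v (c • φ) := by
    refine gl_ext fun x => ?_
    set z := x - ((ψ ⬝ᵥ x) / q) • v - ((φ ⬝ᵥ x) / p) • w with hz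
    have hz1 : φ ⬝ᵥ z = 0 := by
      rw [hz, dotProduct_sub, dotProduct_sub, dotProduct_smul, dotProduct_smul, hv.dot, smul_zero, sub_zero,
        ← hp, smul_eq_mul, div_mul_cancel₀ _ hp0, sub_self]
    have hz2 : ψ ⬝ᵥ z = 0 := by
      rw [hz, dotProduct_sub, dotProduct_sub, dotProduct_smul, dotProduct_smul, hw.dot, smul_zero, sub_zero,
        ← hq, smul_eq_mul, div_mul_cancel₀ _ hq0, sub_self]
    have hgz : (D' * D⁻¹).val *ᵥ z = z := by
      rw [gl_mul_mulVec, hDi (Df z hz1 hz2), Df' z hz1 (by rw [add_dotProduct, smul_dotProduct, hz1, hz2,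
        smul_zero, add_zero])]
    have hx : x = z + ((ψ ⬝ᵥ x) / q) • v + ((φ ⬝ᵥ x) / p) • w := by rw [hz]; abel
    conv_lhs => rw [hx, mulVec_add, mulVec_add, mulVec_smul, mulVec_smul, hgz, hgv, hgw]
    rw [tv_mulVec h0, smul_dotProduct, hz]
    funext i
    simp only [Pi.smul_apply, Pi.add_apply, Pi.sub_apply, smul_eq_mul]
    field_simp
    ring
  have hcE : c ∈ E := (hv.2.2 c).mp ⟨h0, hg ▸ mul_mem hD' (inv_mem hD)⟩
  have hn : 1 + e⁻¹ * e⁻¹ ≠ 0 := by
    intro h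
    have : e⁻¹ = 1 := sq_inj2 h2 (by linear_combination h - h2)
    exact he1 (by rw [← inv_inv e, this, inv_one])
  have := div_mem (add_mem (one_mem E) (mul_mem (inv_mem he) (inv_mem he))) hcE
  rwa [hc, div_div_cancel₀ hn, mul_comm] at this

/-- The two cyclic products of a triangle are roots of a quadratic over the field. -/
theorem triangle2 (h2 : (2 : F) = 0) (hk : ∃ e ∈ E, e ≠ 0 ∧ e ≠ 1) {a b c α β γ : Fin 3 → F}
    (ha : Root P E a α) (hb : Root P E b β) (hc : Root P E c γ) :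
    (α ⬝ᵥ b) * (β ⬝ᵥ c) * (γ ⬝ᵥ a) + (β ⬝ᵥ a) * (γ ⬝ᵥ b) * (α ⬝ᵥ c) ∈ E ∧
    ((α ⬝ᵥ b) * (β ⬝ᵥ c) * (γ ⬝ᵥ a)) * ((β ⬝ᵥ a) * (γ ⬝ᵥ b) * (α ⬝ᵥ c)) ∈ E := by
  refine ⟨?_, ?_⟩
  · have e1 := mu_mem h2 hk (hb.conjTv2 h2 ha.tv) hc
    rw [add_dotProduct, smul_dotProduct, dotProduct_add, dotProduct_smul, smul_eq_mul, smul_eq_mul] at e1
    have e2 := add_mem (mu_mem h2 hk hb hc) (mul_mem (mu_mem h2 hk ha hb) (mu_mem h2 hk ha hc))
    have := sub_mem e1 e2
    convert this using 1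
    ring
  · have := mul_mem (mul_mem (mu_mem h2 hk ha hb) (mu_mem h2 hk hb hc)) (mu_mem h2 hk hc ha)
    convert this using 1
    ring

/-- Functionals agreeing on a basis are equal. -/
lemma eq_of_basis {u₁ u₂ u₃ : Fin 3 → F} (hli : LinearIndependent F ![u₁, u₂, u₃]) {η η' : Fin 3 → F}
    (h₁ : η ⬝ᵥ u₁ = η' ⬝ᵥ u₁) (h₂ : η ⬝ᵥ u₂ = η' ⬝ᵥ u₂) (h₃ : η ⬝ᵥ u₃ = η' ⬝ᵥ u₃) : η = η' := by
  have hs := hli.span_eq_top_of_card_eq_finrank (by simp)
  refine funext fun i => ?_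
  have key : ∀ x ∈ Submodule.span F (Set.range ![u₁, u₂, u₃]), η ⬝ᵥ x = η' ⬝ᵥ x := by
    intro x hx
    induction hx using Submodule.span_induction with
    | mem x hx =>
      obtain ⟨j, rfl⟩ := hx
      fin_cases j
      · exact h₁
      · exact h₂
      · exact h₃
    | zero => simp
    | add x y _ _ hx hy => rw [dotProduct_add, dotProduct_add, hx, hy]
    | smul c x _ hx => rw [dotProduct_smul, dotProduct_smul, hx]
  simpa using key (Pi.single i 1) (hs ▸ Submodule.mem_top)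

/-- The matrices with entries in a subfield, in a given basis. -/
noncomputable def ratGroup (E : Subfield F) (U : GL (Fin 3) F) : Subgroup (GL (Fin 3) F) :=
  (Matrix.GeneralLinearGroup.map (E.subtype : E →+* F)).range.map (MulAut.conj U).toMonoidHom

lemma tv_mem_ratGroup {U : GL (Fin 3) F} {u χ : Fin 3 → F} (h : χ ⬝ᵥ u = 0)
    (hE : ∀ i j, ((U⁻¹).val i ⬝ᵥ u) * (χ ⬝ᵥ fun k => U.val k j) ∈ E) : tv u χ ∈ ratGroup E U := by
  refine ⟨U⁻¹ * tv u χ * U, scalar_entry_mem fun i j => ?_, by simp [mul_assoc]⟩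
  have e : (U⁻¹ * tv u χ * U : GL (Fin 3) F).val i j =
      (1 : Matrix (Fin 3) (Fin 3) F) i j + ((U⁻¹).val i ⬝ᵥ u) * (χ ⬝ᵥ fun k => U.val k j) := by
    rw [Units.val_mul, Units.val_mul, coe_tv h, Matrix.mul_add, Matrix.mul_one, Matrix.add_mul,
      ← Units.val_mul, inv_mul_cancel, Units.val_one, Matrix.mul_vecMulVec, Matrix.vecMulVec_mul,
      Matrix.add_apply, vecMulVec_apply]
    rfl
  rw [e]
  refine add_mem ?_ (hE i j)
  rw [Matrix.one_apply]
  split_ifs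
  · exact one_mem E
  · exact zero_mem E

lemma entries_of_mem_ratGroup {U g : GL (Fin 3) F} (h : g ∈ ratGroup E U) (i j : Fin 3) :
    (U⁻¹ * g * U : GL (Fin 3) F).val i j ∈ E := by
  obtain ⟨m, ⟨m', rfl⟩, rfl⟩ := h
  simp only [MulEquiv.coe_toMonoidHom, MulAut.conj_apply]
  rw [show U⁻¹ * (U * Matrix.GeneralLinearGroup.map (E.subtype : E →+* F) m' * U⁻¹) * U =
    Matrix.GeneralLinearGroup.map (E.subtype : E →+* F) m' by group]
  exact (m'.val i j).2

set_option maxHeartbeats 800000 in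
/-- A centre with two axes: all of `SL 3`, or realisable over the field. -/
theorem point_case (hP : CharTwoCore P) (hv : Root P E v φ) (hk : ∃ e ∈ E, e ≠ 0 ∧ e ≠ 1) {χ : Fin 3 → F}
    (hχ : Tv P v χ) (hind : ∀ l : F, χ ≠ l • φ) :
    specialLinear (Fin 3) F ≤ P ∨ ∃ F₀ : Subfield F, F₀ ≠ ⊤ ∧ RealisableOver F₀ (matrixSet P) := by
  classical
  have h2 := hP.two
  obtain ⟨w₀, ψ₀, hw₀T, hl₀⟩ := exists_linked_to hP hv.1 hv.2.1 hv.tv
  -- normalise: `φ w = 1` and `ψ v = 1`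
  have hw₀ := hv.of_linked h2 hw₀T hl₀
  set p := φ ⬝ᵥ w₀ with hp
  set μ := p * (ψ₀ ⬝ᵥ v) with hμ
  have hp0 : p ≠ 0 := hl₀.1
  have hμE : μ ∈ E := mu_mem h2 hk hv hw₀
  have hμ0 : μ ≠ 0 := mul_ne_zero hp0 hl₀.2
  set w := p⁻¹ • w₀ with hwdef
  set ψ := μ⁻¹ • p⁻¹⁻¹ • ψ₀ with hψdef
  have hw : Root P E w ψ := (hw₀.smul_centre (inv_ne_zero hp0)).smul_axis (inv_mem hμE) (inv_ne_zero hμ0)
  have hφw : φ ⬝ᵥ w = 1 := by rw [hwdef, dotProduct_smul, smul_eq_mul, ← hp, inv_mul_cancel₀ hp0]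
  have hψv : ψ ⬝ᵥ v = 1 := by
    rw [hψdef, smul_dotProduct, smul_dotProduct, inv_inv, smul_eq_mul, smul_eq_mul, inv_mul_cancel₀ hμ0]
  have hφv := hv.dot
  have hψw := hw.dot
  have hl : Linked v φ w ψ := ⟨by rw [hφw]; exact one_ne_zero, by rw [hψv]; exact one_ne_zero⟩
  obtain ⟨θ₀, hθ₀W, z₀, hz₀⟩ : ∃ θ₀ : Fin 3 → F, (∀ x ∈ Submodule.span F ({v, w} : Set (Fin 3 → F)), θ₀ ⬝ᵥ x = 0) ∧
      ∃ z₀, θ₀ ⬝ᵥ z₀ = 1 := by
    have hW : Submodule.span F ({v, w} : Set (Fin 3 → F)) ≠ ⊤ := fun h => by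
      have h1 := finrank_span_finset_le_card (R := F) ({v, w} : Finset (Fin 3 → F))
      rw [Set.finrank, Finset.coe_insert, Finset.coe_singleton, h, finrank_top, Module.finrank_fin_fun] at h1
      exact absurd (h1.trans Finset.card_le_two) (by norm_num)
    obtain ⟨z₀, hz⟩ := SetLike.exists_of_lt (lt_top_iff_ne_top.mpr hW)
    obtain ⟨θ₀, h1, h2⟩ := exists_functional hz.2
    exact ⟨θ₀, h1, z₀, h2⟩
  have hθ₀v : θ₀ ⬝ᵥ v = 0 := hθ₀W v (Submodule.subset_span (by simp))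
  have hθ₀w : θ₀ ⬝ᵥ w = 0 := hθ₀W w (Submodule.subset_span (by simp))
  set z₁ := z₀ - (ψ ⬝ᵥ z₀) • v - (φ ⬝ᵥ z₀) • w with hz₁
  have hφz : φ ⬝ᵥ z₁ = 0 := by
    simp [hz₁, dotProduct_sub, dotProduct_smul, hφv, hφw]
  have hψz : ψ ⬝ᵥ z₁ = 0 := by
    simp [hz₁, dotProduct_sub, dotProduct_smul, hψv, hψw]
  have hθz : θ₀ ⬝ᵥ z₁ = 1 := by
    simp [hz₁, dotProduct_sub, dotProduct_smul, hθ₀v, hθ₀w, hz₀]
  have hli₁ : LinearIndependent F ![v, w, z₁] := by
    rw [Fintype.linearIndependent_iff]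
    intro g hg
    rw [Fin.sum_univ_three] at hg
    have hg' : g 0 • v + g 1 • w + g 2 • z₁ = 0 := hg
    have eφ := congrArg (φ ⬝ᵥ ·) hg'
    have eψ := congrArg (ψ ⬝ᵥ ·) hg'
    have eθ := congrArg (θ₀ ⬝ᵥ ·) hg'
    simp [dotProduct_add, dotProduct_smul, hφv, hφw, hφz, hψv, hψw, hψz, hθ₀v, hθ₀w, hθz] at eφ eψ eθ
    intro i
    fin_cases i
    · exact eψ
    · exact eφ
    · exact eθ
  -- the axes at `v`
  have hsplit : ∀ η : Fin 3 → F, Tv P v η →
      η = (η ⬝ᵥ w) • φ + (η ⬝ᵥ z₁) • θ₀ ∧ Tv P v ((η ⬝ᵥ z₁) • θ₀) := by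
    intro η hη
    have hdec : η = (η ⬝ᵥ w) • φ + (η ⬝ᵥ z₁) • θ₀ := by
      refine eq_of_basis hli₁ ?_ ?_ ?_
      · simp [add_dotProduct, smul_dotProduct, hη.1, hφv, hθ₀v]
      · simp [add_dotProduct, smul_dotProduct, hφw, hθ₀w]
      · simp [add_dotProduct, smul_dotProduct, hφz, hθz]
    refine ⟨hdec, ?_⟩
    set α := η ⬝ᵥ w with hα
    set β := η ⬝ᵥ z₁ with hβ
    rcases eq_or_ne α 0 with h0 | h0
    · rwa [hdec, h0, zero_smul, zero_add] at hη
    obtain ⟨e, he, he0, he1⟩ := hk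
    have hηR : Root P E v η := hw.of_linked h2 hη ⟨by rw [hψv]; exact one_ne_zero, h0⟩
    obtain ⟨D, hD, Dv, Dw, Df⟩ := exists_torus h2 hv hw hl he he0
    have hη' : η ᵥ* (D⁻¹).val = (α * e⁻¹) • φ + β • θ₀ := by
      have hDi : ∀ {x y : Fin 3 → F}, D.val *ᵥ x = y → (η ᵥ* (D⁻¹).val) ⬝ᵥ y = η ⬝ᵥ x := fun h => by
        rw [← dotProduct_mulVec, ← h, gl_inv_mulVec]
      refine eq_of_basis hli₁ ?_ ?_ ?_
      · have h := hDi Dv
        rw [dotProduct_smul, smul_eq_mul, hη.1] at h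
        rw [(mul_eq_zero.mp h).resolve_left (inv_ne_zero he0)]
        simp [add_dotProduct, smul_dotProduct, hφv, hθ₀v]
      · have h := hDi Dw
        rw [dotProduct_smul, smul_eq_mul, ← hα] at h
        simp only [add_dotProduct, smul_dotProduct, hφw, hθ₀w, smul_eq_mul, mul_one, mul_zero, add_zero]
        rw [← h]; field_simp
      · rw [hDi (Df z₁ hφz hψz), ← hβ]
        simp [add_dotProduct, smul_dotProduct, hφz, hθz]
    have hR' := (hηR.conj hD).2.2 1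
    rw [Dv, hη'] at hR'
    have h1 := hR'.mpr (one_mem E)
    rw [one_smul, tv_smul_left_iff (inv_ne_zero he0)] at h1
    have hηR' : Root P E v (e⁻¹ • ((α * e⁻¹) • φ + β • θ₀)) := by
      refine hw.of_linked h2 h1 ⟨by rw [hψv]; exact one_ne_zero, ?_⟩
      simp [smul_dotProduct, add_dotProduct, hφw, hθ₀w, h0, he0]
    have h3 := hηR'.mem he
    rw [smul_inv_smul₀ he0] at h3
    have h4 : Tv P v ((α * (e⁻¹ + 1)) • φ) := by
      have h5 := h3.add hη
      have e' : (α * e⁻¹) • φ + β • θ₀ + η = (α * (e⁻¹ + 1)) • φ := by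
        rw [hdec]
        funext i
        simp only [Pi.add_apply, Pi.smul_apply, smul_eq_mul]
        linear_combination (β * θ₀ i) * h2
      rwa [e'] at h5
    have he1' : e⁻¹ + 1 ≠ 0 := fun h => he1 (by
      have : e⁻¹ = 1 := by linear_combination h - h2
      rw [← inv_inv e, this, inv_one])
    have hαE : α ∈ E := by
      have := div_mem ((hv.2.2 _).mp h4) (add_mem (inv_mem he) (one_mem E))
      rwa [mul_div_cancel_right₀ _ he1'] at this
    have h6 := hη.add (hv.mem hαE)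
    have e'' : η + α • φ = β • θ₀ := by
      rw [hdec]
      funext i
      simp only [Pi.add_apply, Pi.smul_apply, smul_eq_mul]
      linear_combination (α * φ i) * h2
    rwa [e''] at h6
  obtain ⟨hχdec, hχθ⟩ := hsplit χ hχ
  have hβ0 : χ ⬝ᵥ z₁ ≠ 0 := fun h => hind (χ ⬝ᵥ w) (by rw [h, zero_smul, add_zero] at hχdec; exact hχdec)
  set θ := (χ ⬝ᵥ z₁) • θ₀ with hθdef
  set z := (χ ⬝ᵥ z₁)⁻¹ • z₁ with hzdef
  have hθv : θ ⬝ᵥ v = 0 := by rw [hθdef, smul_dotProduct, hθ₀v, smul_zero]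
  have hθw : θ ⬝ᵥ w = 0 := by rw [hθdef, smul_dotProduct, hθ₀w, smul_zero]
  have hθz' : θ ⬝ᵥ z = 1 := by
    rw [hθdef, hzdef, smul_dotProduct, dotProduct_smul, hθz, smul_eq_mul, smul_eq_mul, mul_one,
      mul_inv_cancel₀ hβ0]
  have hφz' : φ ⬝ᵥ z = 0 := by rw [hzdef, dotProduct_smul, hφz, smul_zero]
  have hψz' : ψ ⬝ᵥ z = 0 := by rw [hzdef, dotProduct_smul, hψz, smul_zero]
  have hvθ : ∀ c ∈ E, Tv P v (c • θ) := by
    intro c hc
    have hη : Root P E v (φ + θ) := hw.of_linked h2 (hv.tv.add hχθ)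
      ⟨by rw [hψv]; exact one_ne_zero, by rw [add_dotProduct, hφw, hθw, add_zero]; exact one_ne_zero⟩
    have h := (hη.mem hc).add (hv.mem hc)
    have e' : c • (φ + θ) + c • φ = c • θ := by
      rw [smul_add, add_right_comm, vec_add_self h2, zero_add]
    rwa [e'] at h
  have hfull : ∀ x ∈ E, ∀ y ∈ E, Tv P v (x • φ + y • θ) := fun x hx y hy => (hv.mem hx).add (hvθ y hy)
  have hroot : ∀ x ∈ E, x ≠ 0 → ∀ y ∈ E, Root P E v (x • φ + y • θ) := fun x hx hx0 y hy =>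
    hw.of_linked h2 (hfull x hx y hy) ⟨by rw [hψv]; exact one_ne_zero, by
      simpa [add_dotProduct, smul_dotProduct, hφw, hθw] using hx0⟩
  have hli : LinearIndependent F ![v, w, z] := by
    rw [Fintype.linearIndependent_iff]
    intro g hg
    rw [Fin.sum_univ_three] at hg
    have hg' : g 0 • v + g 1 • w + g 2 • z = 0 := hg
    have eφ := congrArg (φ ⬝ᵥ ·) hg'
    have eψ := congrArg (ψ ⬝ᵥ ·) hg'
    have eθ := congrArg (θ ⬝ᵥ ·) hg'
    simp [dotProduct_add, dotProduct_smul, hφv, hφw, hφz', hψv, hψw, hψz', hθv, hθw, hθz'] at eφ eψ eθ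
    intro i
    fin_cases i
    · exact eψ
    · exact eφ
    · exact eθ
  by_cases hE : E = ⊤
  · left
    refine specialLinear_le_of_irreducible hP.irred hv.1 fun η hη => ?_
    have e : η = (η ⬝ᵥ w) • φ + (η ⬝ᵥ z) • θ := by
      refine eq_of_basis hli ?_ ?_ ?_
      · simp [add_dotProduct, smul_dotProduct, hη, hφv, hθv]
      · simp [add_dotProduct, smul_dotProduct, hφw, hθw]
      · simp [add_dotProduct, smul_dotProduct, hφz', hθz']
    rw [e]
    exact (hfull _ (hE ▸ Subfield.mem_top _) _ (hE ▸ Subfield.mem_top _)).2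
  right
  -- the roots at `w`
  have hwθ : ∀ y ∈ E, Tv P w (y • θ) := by
    intro y hy
    obtain ⟨r, hr, k, hk0, hkk, hrv, -, -, -, hη⟩ := exists_swap2 h2 hv.tv hw.tv hl
    have hk1 : k = 1 := sq_inj2 h2 (by rwa [hφw, hψv, mul_one, ← one_mul (1 : F)] at hkk)
    have hθr : θ ᵥ* (r⁻¹).val = θ := by
      conv_lhs => rw [← hη θ hθv hθw]
      rw [vecMul_vecMul, ← Units.val_mul, mul_inv_cancel, Units.val_one, vecMul_one]
    have h := (hvθ y hy).conj hr
    rwa [hrv, hk1, one_smul, smul_vecMul, hθr] at h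
  have hwroot : ∀ x ∈ E, x ≠ 0 → ∀ y ∈ E, Root P E w (x • ψ + y • θ) := fun x hx hx0 y hy =>
    hv.of_linked h2 ((hw.mem hx).add (hwθ y hy)) ⟨by rw [hφw]; exact one_ne_zero, by
      simpa [add_dotProduct, smul_dotProduct, hψv, hθv] using hx0⟩
  -- the basis
  have hdet : IsUnit (Matrix.of fun i j => (![v, w, z] j : Fin 3 → F) i) := by
    rw [← Matrix.linearIndependent_cols_iff_isUnit]
    exact hli
  obtain ⟨U, hU⟩ := hdet
  have hrows : ∀ (i : Fin 3) (x : Fin 3 → F), (U⁻¹).val i ⬝ᵥ x = (![ψ, φ, θ] i : Fin 3 → F) ⬝ᵥ x := by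
    intro i x
    have hM : (Matrix.of ![ψ, φ, θ]) * U.val = 1 := by
      rw [hU]
      ext i j
      show (![ψ, φ, θ] i : Fin 3 → F) ⬝ᵥ (![v, w, z] j : Fin 3 → F) = _
      fin_cases i <;> fin_cases j <;> simp [hψv, hψw, hψz', hφv, hφw, hφz', hθv, hθw, hθz']
    have : (U⁻¹).val = Matrix.of ![ψ, φ, θ] := by
      rw [← one_mul (U⁻¹).val, ← hM, mul_assoc, Units.mul_inv, mul_one]
    rw [this]; rfl
  have hcols : ∀ j : Fin 3, (fun k => U.val k j) = (![v, w, z] j : Fin 3 → F) := fun j => by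
    rw [hU]; rfl
  -- roots off the plane are rational
  have good : ∀ u χ', Root P E u χ' → θ ⬝ᵥ u ≠ 0 → χ' ⬝ᵥ v ≠ 0 → χ' ⬝ᵥ w ≠ 0 →
      tv u χ' ∈ ratGroup E U := by
    intro u χ' hR hu3 hχv hχw
    have a1 : (χ' ⬝ᵥ v) * (φ ⬝ᵥ u) ∈ E := by
      have := mu_mem h2 hk (hroot 1 (one_mem E) one_ne_zero 0 (zero_mem E)) hR
      rw [zero_smul, add_zero, one_smul, mul_comm] at this; exact this
    have a2 : (χ' ⬝ᵥ v) * (θ ⬝ᵥ u) ∈ E := by
      have := sub_mem (mu_mem h2 hk (hroot 1 (one_mem E) one_ne_zero 1 (one_mem E)) hR) a1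
      convert this using 1
      rw [add_dotProduct, one_smul, one_smul]; ring
    have b1 : (χ' ⬝ᵥ w) * (ψ ⬝ᵥ u) ∈ E := by
      have := mu_mem h2 hk (hwroot 1 (one_mem E) one_ne_zero 0 (zero_mem E)) hR
      rw [zero_smul, add_zero, one_smul, mul_comm] at this; exact this
    have b2 : (χ' ⬝ᵥ w) * (θ ⬝ᵥ u) ∈ E := by
      have := sub_mem (mu_mem h2 hk (hwroot 1 (one_mem E) one_ne_zero 1 (one_mem E)) hR) b1
      convert this using 1
      rw [add_dotProduct, one_smul, one_smul]; ring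
    have hsum : (ψ ⬝ᵥ u) * (χ' ⬝ᵥ v) + (φ ⬝ᵥ u) * (χ' ⬝ᵥ w) + (θ ⬝ᵥ u) * (χ' ⬝ᵥ z) = 0 := by
      have e : χ' = (χ' ⬝ᵥ v) • ψ + (χ' ⬝ᵥ w) • φ + (χ' ⬝ᵥ z) • θ := by
        refine eq_of_basis hli ?_ ?_ ?_
        · simp [add_dotProduct, smul_dotProduct, hψv, hφv, hθv]
        · simp [add_dotProduct, smul_dotProduct, hψw, hφw, hθw]
        · simp [add_dotProduct, smul_dotProduct, hψz', hφz', hθz']
      have h := hR.dot
      rw [e] at h
      simp only [add_dotProduct, smul_dotProduct, smul_eq_mul] at h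
      linear_combination h
    have p00 : (ψ ⬝ᵥ u) * (χ' ⬝ᵥ v) ∈ E := by
      have := div_mem (mul_mem b1 a2) b2
      convert this using 1
      field_simp
    have p11 : (φ ⬝ᵥ u) * (χ' ⬝ᵥ w) ∈ E := by
      have := div_mem (mul_mem a1 b2) a2
      convert this using 1
      field_simp
    have p22 : (θ ⬝ᵥ u) * (χ' ⬝ᵥ z) ∈ E := by
      have := add_mem p00 p11
      convert this using 1
      linear_combination hsum - ((ψ ⬝ᵥ u) * (χ' ⬝ᵥ v) + (φ ⬝ᵥ u) * (χ' ⬝ᵥ w)) * h2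
    have p02 : (ψ ⬝ᵥ u) * (χ' ⬝ᵥ z) ∈ E := by
      have := div_mem (mul_mem b1 p22) b2
      convert this using 1
      field_simp
    have p12 : (φ ⬝ᵥ u) * (χ' ⬝ᵥ z) ∈ E := by
      have := div_mem (mul_mem a1 p22) a2
      convert this using 1
      field_simp
    refine tv_mem_ratGroup hR.dot fun i j => ?_
    rw [hrows, hcols]
    fin_cases i <;> fin_cases j
    · exact p00
    · show (ψ ⬝ᵥ u) * (χ' ⬝ᵥ w) ∈ E; rw [mul_comm]; exact b1
    · exact p02
    · show (φ ⬝ᵥ u) * (χ' ⬝ᵥ v) ∈ E; rw [mul_comm]; exact a1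
    · exact p11
    · exact p12
    · show (θ ⬝ᵥ u) * (χ' ⬝ᵥ v) ∈ E; rw [mul_comm]; exact a2
    · show (θ ⬝ᵥ u) * (χ' ⬝ᵥ w) ∈ E; rw [mul_comm]; exact b2
    · exact p22
  -- rational conjugators
  have hgv : tv v φ ∈ ratGroup E U := by
    refine tv_mem_ratGroup hφv fun i j => ?_
    rw [hrows, hcols]
    fin_cases i <;> fin_cases j <;> simp [hψv, hφv, hθv, hφw, hφz', zero_mem, one_mem]
  have hgw : tv w ψ ∈ ratGroup E U := by
    refine tv_mem_ratGroup hψw fun i j => ?_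
    rw [hrows, hcols]
    fin_cases i <;> fin_cases j <;> simp [hψv, hφw, hθw, hψw, hψz', zero_mem, one_mem]
  have conj_back : ∀ {g : GL (Fin 3) F} {u χ' : Fin 3 → F}, g ∈ ratGroup E U → χ' ⬝ᵥ u = 0 →
      tv (g.val *ᵥ u) (χ' ᵥ* (g⁻¹).val) ∈ ratGroup E U → tv u χ' ∈ ratGroup E U := by
    intro g u χ' hg h0 h
    rw [← conj_tv g h0] at h
    have := mul_mem (mul_mem (inv_mem hg) h) hg
    rwa [show g⁻¹ * (g * tv u χ' * g⁻¹) * g = tv u χ' by group] at this
  have step : ∀ u χ', Root P E u χ' → θ ⬝ᵥ u ≠ 0 → tv u χ' ∈ ratGroup E U := by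
    intro u χ' hR hu3
    by_cases hχv : χ' ⬝ᵥ v = 0
    · by_cases hχw : χ' ⬝ᵥ w = 0
      · exfalso
        have e : χ' = (χ' ⬝ᵥ z) • θ := by
          refine eq_of_basis hli ?_ ?_ ?_
          · simp [smul_dotProduct, hθv, hχv]
          · simp [smul_dotProduct, hθw, hχw]
          · simp [smul_dotProduct, hθz']
        have h := hR.dot
        rw [e, smul_dotProduct, smul_eq_mul] at h
        exact hR.2.1 (by rw [e, (mul_eq_zero.mp h).resolve_right hu3, zero_smul])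
      · refine conj_back hgw hR.dot ?_
        refine good _ _ (hR.conj hw.tv.2) ?_ ?_ ?_ <;> (try rw [vecMul_tv_inv hψw]) <;>
          simp [tv_mulVec hψw, vecMul_tv_inv hψw, dotProduct_add, dotProduct_smul, hθw, sub_dotProduct,
            smul_dotProduct, hχv, hψv, hψw, hu3, hχw]
    · by_cases hχw : χ' ⬝ᵥ w = 0
      · refine conj_back hgv hR.dot ?_
        refine good _ _ (hR.conj hv.tv.2) ?_ ?_ ?_ <;> (try rw [vecMul_tv_inv hφv]) <;>
          simp [tv_mulVec hφv, vecMul_tv_inv hφv, dotProduct_add, dotProduct_smul, hθv, sub_dotProduct,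
            smul_dotProduct, hχw, hφw, hφv, hu3, hχv]
      · exact good u χ' hR hu3 hχv hχw
  obtain ⟨u₀, χ₀, hR₀, hu₀⟩ : ∃ u₀ χ₀, Root P E u₀ χ₀ ∧ θ ⬝ᵥ u₀ ≠ 0 := by
    by_contra hall
    push Not at hall
    let C : Submodule F (Fin 3 → F) := Submodule.span F {x | ∃ η, Root P E x η}
    have hC : Invariant P C := by
      intro g hg x hx
      induction hx using Submodule.span_induction with
      | mem y hy =>
        obtain ⟨η, hη⟩ := hy
        exact Submodule.subset_span ⟨_, hη.conj hg⟩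
      | zero => rw [mulVec_zero]; exact zero_mem _
      | add y y' _ _ hy hy' => rw [mulVec_add]; exact add_mem hy hy'
      | smul c y _ hy => rw [mulVec_smul]; exact Submodule.smul_mem _ c hy
    rcases hP.irred C hC with h | h
    · exact hv.1 ((Submodule.mem_bot F).mp (h ▸ Submodule.subset_span ⟨φ, hv⟩))
    · have key : ∀ x ∈ C, θ ⬝ᵥ x = 0 := by
        intro x hx
        induction hx using Submodule.span_induction with
        | mem y hy => obtain ⟨η, hη⟩ := hy; exact hall y η hη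
        | zero => exact dotProduct_zero θ
        | add y y' _ _ hy hy' => rw [dotProduct_add, hy, hy', add_zero]
        | smul c y _ hy => rw [dotProduct_smul, hy, smul_zero]
      exact one_ne_zero (hθz'.symm.trans (key z (h ▸ Submodule.mem_top)))
  have all : ∀ u χ', Root P E u χ' → tv u χ' ∈ ratGroup E U := by
    intro u χ' hR
    by_cases hu3 : θ ⬝ᵥ u = 0
    swap
    · exact step u χ' hR hu3
    have hu : u = (ψ ⬝ᵥ u) • v + (φ ⬝ᵥ u) • w := by
      have hs := hli.span_eq_top_of_card_eq_finrank (by simp)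
      obtain ⟨g, hg⟩ := (Submodule.mem_span_range_iff_exists_fun F).mp
        (show u ∈ Submodule.span F (Set.range ![v, w, z]) from hs ▸ Submodule.mem_top)
      rw [Fin.sum_univ_three] at hg
      have hg' : g 0 • v + g 1 • w + g 2 • z = u := hg
      have eθ := congrArg (θ ⬝ᵥ ·) hg'
      simp [dotProduct_add, dotProduct_smul, hθv, hθw, hθz', hu3] at eθ
      rw [← hg', eθ, zero_smul, add_zero]
      simp [dotProduct_add, dotProduct_smul, hψv, hψw, hφv, hφw]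
    -- a rational root whose axis avoids `u` and whose centre is off the plane
    obtain ⟨u₁, χ₁, hR₁, hu₁, hχu⟩ : ∃ u₁ χ₁, Root P E u₁ χ₁ ∧ θ ⬝ᵥ u₁ ≠ 0 ∧ χ₁ ⬝ᵥ u ≠ 0 := by
      by_contra hall
      push Not at hall
      have z0 := hall u₀ χ₀ hR₀ hu₀
      have hv0' := hR₀.conjTv2 h2 hv.tv
      have hw0' := hR₀.conjTv2 h2 hw.tv
      have z1 := hall _ _ hv0' (by rwa [dotProduct_add, dotProduct_smul, hθv, smul_zero, add_zero])
      have z2 := hall _ _ hw0' (by rwa [dotProduct_add, dotProduct_smul, hθw, smul_zero, add_zero])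
      simp only [add_dotProduct, smul_dotProduct, z0, zero_add, smul_eq_mul] at z1 z2
      have hχ0v : χ₀ ⬝ᵥ v ≠ 0 ∨ χ₀ ⬝ᵥ w ≠ 0 := by
        by_contra hc
        push Not at hc
        have e : χ₀ = (χ₀ ⬝ᵥ z) • θ := by
          refine eq_of_basis hli ?_ ?_ ?_
          · simp [smul_dotProduct, hθv, hc.1]
          · simp [smul_dotProduct, hθw, hc.2]
          · simp [smul_dotProduct, hθz']
        have h := hR₀.dot
        rw [e, smul_dotProduct, smul_eq_mul] at h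
        exact hR₀.2.1 (by rw [e, (mul_eq_zero.mp h).resolve_right hu₀, zero_smul])
      have hu0 : ψ ⬝ᵥ u = 0 ∧ φ ⬝ᵥ u = 0 := by
        have z0' : (ψ ⬝ᵥ u) * (χ₀ ⬝ᵥ v) + (φ ⬝ᵥ u) * (χ₀ ⬝ᵥ w) = 0 := by
          rw [hu, dotProduct_add, dotProduct_smul, dotProduct_smul] at z0
          exact z0
        rcases hχ0v with h | h
        · have hφu : φ ⬝ᵥ u = 0 := (mul_eq_zero.mp z1).resolve_left h
          rw [hφu, zero_mul, add_zero] at z0'
          exact ⟨(mul_eq_zero.mp z0').resolve_right h, hφu⟩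
        · have hψu : ψ ⬝ᵥ u = 0 := (mul_eq_zero.mp z2).resolve_left h
          rw [hψu, zero_mul, zero_add] at z0'
          exact ⟨hψu, (mul_eq_zero.mp z0').resolve_right h⟩
      exact hR.1 (by rw [hu, hu0.1, hu0.2, zero_smul, zero_smul, add_zero])
    refine conj_back (step u₁ χ₁ hR₁ hu₁) hR.dot (step _ _ (hR.conj hR₁.tv.2) ?_)
    rw [tv_mulVec hR₁.dot, dotProduct_add, dotProduct_smul, hu3, zero_add]
    exact mul_ne_zero hχu hu₁
  refine ⟨E, hE, U⁻¹, fun s hs i j => ?_⟩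
  obtain ⟨x, hx, rfl⟩ := mem_matrixSet.mp hs
  have hle : P ≤ ratGroup E U := by
    refine (hP.le_closure (S := {g | ∃ u χ', Root P E u χ' ∧ g = tv u χ'}) ?_ ?_ ?_).trans ?_
    · rintro _ ⟨u, χ', hR, rfl⟩; exact hR.tv.2
    · rintro g hg _ ⟨u, χ', hR, rfl⟩
      exact ⟨_, _, hR.conj hg, conj_tv g hR.dot⟩
    · exact ⟨_, ⟨v, φ, hv, rfl⟩, tv_not_scalar hv.1 hv.2.1 hφv⟩
    · rw [Subgroup.closure_le]
      rintro _ ⟨u, χ', hR, rfl⟩
      exact all u χ' hR
  have h := entries_of_mem_ratGroup (hle hx) i j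
  rw [Units.val_mul, Units.val_mul] at h
  rwa [inv_inv]

end Cfsg.Agent.Lib.Mitchell96
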