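import Cfsg.Agent.Lib.Mitchell96.CharTwoLarge
import Cfsg.Agent.Lib.Mitchell96.CharTwoDual

set_option autoImplicit false
set_option linter.style.haveILetI false
set_option linter.unusedSectionVars false
set_option linter.unusedVariables false

/-!
Characteristic two, root groups with more than two elements: all of `SL 3`, a proper subfield or a
unitary form.
-/

namespace Cfsg.Agent.Lib.Mitchell96

open Matrix Cfsg.Geo
open Cfsg.Agent.Lib.Subspaces.Transvection Cfsg.Agent.Lib.TransvThree Cfsg.Agent.Lib.PrimeDim.Basic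
open Cfsg.Agent.Lib.PrimeDim.Fields
open scoped MatrixGroups commutatorElement

variable {F : Type*} [Field F] [Fintype F] {P : Subgroup (GL (Fin 3) F)} {E : Subfield F}
variable {v w φ ψ : Fin 3 → F}

/-- An axis with two centres. -/
theorem axis_case (hP : CharTwoCore P) (hv : Root P E v φ) (hk : ∃ e ∈ E, e ≠ 0 ∧ e ≠ 1)
    (hw : Tv P w φ) (hind : ∀ l : F, w ≠ l • v) :
    specialLinear (Fin 3) F ≤ P ∨ ∃ F₀ : Subfield F, F₀ ≠ ⊤ ∧ RealisableOver F₀ (matrixSet P) := by
  rcases point_case hP.contra (root_contra hP.two hv) hk ((tv_contra hP.two).mpr hw) hind with h | ⟨F₀, h0, h⟩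
  · exact Or.inl (specialLinear_contra h)
  · exact Or.inr ⟨F₀, h0, realisable_contra h⟩

/-- Two root groups of the class which are not linked. -/
theorem unlinked_case (hP : CharTwoCore P) (hv : Root P E v φ) (hw : Root P E w ψ)
    (hk : ∃ e ∈ E, e ≠ 0 ∧ e ≠ 1) (hind : ∀ l : F, w ≠ l • v) (h0 : φ ⬝ᵥ w = 0) :
    specialLinear (Fin 3) F ≤ P ∨ ∃ F₀ : Subfield F, F₀ ≠ ⊤ ∧ RealisableOver F₀ (matrixSet P) := by
  by_cases hψv : ψ ⬝ᵥ v = 0
  · obtain ⟨l, hl⟩ := prop_of_vanish hv.1 hind hv.2.1 hv.dot h0 hψv hw.dot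
    have hl0 : l ≠ 0 := fun h => hw.2.1 (by rw [hl, h, zero_smul])
    refine axis_case hP hv hk (w := l • w) ((tv_smul_left_iff hl0).mpr (hl ▸ hw.tv)) fun m hm => ?_
    exact hind (l⁻¹ * m) (by rw [mul_smul, ← hm, inv_smul_smul₀ hl0])
  · refine axis_case hP hv hk (w := (ψ ⬝ᵥ v) • w) ((tv_smul_left_iff hψv).mpr
      (hv.tv.commutator_centre hw.tv h0)) fun m hm => ?_
    exact hind ((ψ ⬝ᵥ v)⁻¹ * m) (by rw [mul_smul, ← hm, inv_smul_smul₀ hψv])

set_option maxHeartbeats 800000 in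
/-- Root groups with more than two elements. -/
theorem large_case (hP : CharTwoCore P) {a α : Fin 3 → F} (ha : Root P E a α)
    (hk : ∃ e ∈ E, e ≠ 0 ∧ e ≠ 1) :
    specialLinear (Fin 3) F ≤ P ∨ (∃ F₀ : Subfield F, F₀ ≠ ⊤ ∧ RealisableOver F₀ (matrixSet P)) ∨
      ∃ (σ : F ≃+* F) (f : (Fin 3 → F) → (Fin 3 → F) → F), IsUnitaryForm σ f ∧ FixesForm (matrixSet P) f := by
  classical
  have h2 := hP.two
  by_cases hN : ∀ u η u' η', Root P E u η → Root P E u' η' →
      (((∀ l : F, u' ≠ l • u) → η ⬝ᵥ u' ≠ 0) ∧ (u' = u → ∃ l : F, η' = l • η))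
  swap
  · push Not at hN
    obtain ⟨u, η, u', η', hu, hu', h⟩ := hN
    have : specialLinear (Fin 3) F ≤ P ∨ ∃ F₀ : Subfield F, F₀ ≠ ⊤ ∧ RealisableOver F₀ (matrixSet P) := by
      by_cases h' : (∀ l : F, u' ≠ l • u) ∧ η ⬝ᵥ u' = 0
      · exact unlinked_case hP hu hu' hk h'.1 h'.2
      · push Not at h'
        obtain ⟨e, hne⟩ := h fun hl => h' hl
        subst e
        exact point_case hP hu hk hu'.tv hne
    exact this.imp id Or.inl
  have hlink : ∀ {u η u' η'}, Root P E u η → Root P E u' η' → (∀ l : F, u' ≠ l • u) → η ⬝ᵥ u' ≠ 0 :=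
    fun hu hu' h => (hN _ _ _ _ hu hu').1 h
  -- normalised roots
  let Nd : (Fin 3 → F) → (Fin 3 → F) → Prop := fun d χ => Root P E d χ ∧ α ⬝ᵥ d = 1 ∧ χ ⬝ᵥ a = 1
  let S : (Fin 3 → F) → (Fin 3 → F) → Prop := fun d χ => (d = a ∧ χ = α) ∨ Nd d χ
  have haS : S a α := Or.inl ⟨rfl, rfl⟩
  have hSroot : ∀ {d χ}, S d χ → Root P E d χ := fun h => h.elim (fun e => by rw [e.1, e.2]; exact ha) And.left
  have hnd : ∀ {d χ}, Nd d χ → ∀ l : F, d ≠ l • a := fun {d χ} h l e => by
    have := h.2.1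
    rw [e, dotProduct_smul, ha.dot, smul_zero] at this
    exact zero_ne_one this
  have hgen : ∀ {u η}, Root P E u η → ∃ d χ, ∃ e ∈ E, S d χ ∧ tv u η = tv d (e • χ) ∧
      ∃ l : F, u = l • d := by
    intro u η hu
    by_cases hua : ∃ l : F, u = l • a
    · obtain ⟨l, rfl⟩ := hua
      have hl0 : l ≠ 0 := fun h => hu.1 (by rw [h, zero_smul])
      have h' : Root P E a (l • η) := by
        have := hu.smul_centre (inv_ne_zero hl0)
        rwa [inv_smul_smul₀ hl0, inv_inv] at this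
      obtain ⟨m, hm⟩ := (hN _ _ _ _ ha h').2 rfl
      refine ⟨a, α, m, (ha.2.2 m).mp (hm ▸ h'.tv), haS, ?_, l, rfl⟩
      rw [← hm, tv_smul (by simpa [hl0] using hu.dot) l]
    · push Not at hua
      have hp0 : α ⬝ᵥ u ≠ 0 := hlink ha hu hua
      set p := α ⬝ᵥ u with hp
      have hq0 : η ⬝ᵥ a ≠ 0 := hlink hu ha fun l e => by
        have hl0 : l ≠ 0 := fun h => ha.1 (by rw [e, h, zero_smul])
        exact hua l⁻¹ (by rw [e, inv_smul_smul₀ hl0])
      set μ := p * (η ⬝ᵥ a) with hμ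
      have hμE : μ ∈ E := mu_mem h2 hk ha hu
      have hμ0 : μ ≠ 0 := mul_ne_zero hp0 hq0
      refine ⟨p⁻¹ • u, μ⁻¹ • p⁻¹⁻¹ • η, μ, hμE, Or.inr ⟨?_, ?_, ?_⟩, ?_, p, (smul_inv_smul₀ hp0 u).symm⟩
      · exact (hu.smul_centre (inv_ne_zero hp0)).smul_axis (inv_mem hμE) (inv_ne_zero hμ0)
      · rw [dotProduct_smul, smul_eq_mul, ← hp, inv_mul_cancel₀ hp0]
      · rw [smul_dotProduct, smul_dotProduct, inv_inv, smul_eq_mul, smul_eq_mul, inv_mul_cancel₀ hμ0]
      · rw [smul_inv_smul₀ hμ0, inv_inv, tv_smul (by rw [smul_dotProduct, hu.dot, smul_zero]),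
          inv_smul_smul₀ hp0]
  -- the automorphism fixing the field
  obtain ⟨p, f, _, _, hf, hFp⟩ := exists_char_card (F := F)
  obtain ⟨e, he, hdvd, hcard, hEfix⟩ := Cfsg.Agent.Lib.PrimeDim.Fields.card_subfield E hFp
  set σ₀ : F →+* F := frob p e with hσ₀
  have hσE : ∀ x : F, x ∈ E ↔ σ₀ x = x := fun x => by
    rw [hσ₀, frob_apply, ← mem_fixedField, ← hEfix]
  have hquad : ∀ x y : F, x + y ∈ E → x * y ∈ E → x ∉ E → σ₀ x = y := by
    intro x y hs hp hx
    rw [hσE, map_add] at hs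
    rw [hσE, map_mul] at hp
    have h : (σ₀ x + x) * (σ₀ x + y) = 0 := by
      linear_combination -hp - σ₀ x * hs + (σ₀ x * σ₀ x + σ₀ x * σ₀ y) * h2
    rcases mul_eq_zero.mp h with e1 | e1
    · exact absurd ((hσE x).mpr (by linear_combination e1 - x * h2)) hx
    · linear_combination e1 - y * h2
  have hquad2 : ∀ x y : F, x + y ∈ E → x * y ∈ E → σ₀ (σ₀ x) = x := by
    intro x y hs hp
    by_cases hx : x ∈ E
    · rw [(hσE x).mp hx, (hσE x).mp hx]
    · have h1 := hquad x y hs hp hx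
      rw [hσE, map_add, h1] at hs
      rw [h1]
      linear_combination hs
  -- products of normalised roots
  have hpair : ∀ {d χ d' χ'}, Nd d χ → Nd d' χ' →
      (χ ⬝ᵥ d') + (χ' ⬝ᵥ d) ∈ E ∧ (χ ⬝ᵥ d') * (χ' ⬝ᵥ d) ∈ E := by
    intro d χ d' χ' hd hd'
    have h := triangle2 h2 hk ha hd.1 hd'.1
    rwa [hd.2.1, hd'.2.2, hd.2.2, hd'.2.1, one_mul, one_mul, mul_one, mul_one] at h
  have hnotE : ∀ {d χ d' χ'}, Nd d χ → Nd d' χ' → (∀ x y : F, d' ≠ x • a + y • d) → χ ⬝ᵥ d' ∉ E := by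
    intro d χ d' χ' hd hd' hind hT
    have hr := hd'.1.conjTv2 h2 (ha.mem hT)
    simp only [smul_dotProduct, hd'.2.1, hd'.2.2, one_smul, smul_eq_mul, mul_one, one_mul] at hr
    refine hlink hd.1 hr (fun l hl => hind (χ ⬝ᵥ d') l ?_) ?_
    · rw [← hl, add_comm d', ← add_assoc, vec_add_self h2, zero_add]
    · rw [dotProduct_add, dotProduct_smul, hd.2.2, smul_eq_mul, mul_one, add_self2 h2]
  have hsym : ∀ {d χ d' χ'}, S d χ → S d' χ' → σ₀ (χ ⬝ᵥ d') = χ' ⬝ᵥ d := by
    intro d χ d' χ' hd hd'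
    rcases hd with ⟨rfl, rfl⟩ | hd <;> rcases hd' with ⟨e1, e2⟩ | hd'
    · rw [e1, e2, ha.dot, map_zero]
    · rw [hd'.2.1, map_one, hd'.2.2]
    · rw [e1, e2, hd.2.2, map_one, hd.2.1]
    · by_cases hind : ∀ x y : F, d' ≠ x • a + y • d
      · exact hquad _ _ (hpair hd hd').1 (hpair hd hd').2 (hnotE hd hd' hind)
      · push Not at hind
        obtain ⟨x, y, hxy⟩ := hind
        have hy : y = 1 := by
          have h := hd'.2.1
          rw [hxy, dotProduct_add, dotProduct_smul, dotProduct_smul, ha.dot, hd.2.1, smul_zero, zero_add,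
            smul_eq_mul, mul_one] at h
          exact h
        have h1 : χ ⬝ᵥ d' = x := by
          rw [hxy, dotProduct_add, dotProduct_smul, dotProduct_smul, hd.2.2, hd.1.dot, smul_zero, add_zero,
            smul_eq_mul, mul_one]
        have h3 : χ' ⬝ᵥ d = x := by
          have h := hd'.1.dot
          rw [hxy, hy, one_smul, dotProduct_add, dotProduct_smul, hd'.2.2, smul_eq_mul, mul_one] at h
          linear_combination h - x * h2
        rw [h1, h3]
        have := (hpair hd hd').2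
        rw [h1, h3, hσE, map_mul] at this
        exact sq_inj2 h2 this
  have hdd : ∀ {d χ d' χ'}, S d χ → S d' χ' → σ₀ (σ₀ (χ ⬝ᵥ d')) = χ ⬝ᵥ d' := fun hd hd' => by
    rw [hsym hd hd', hsym hd' hd]
  -- a basis of centres
  let C : Submodule F (Fin 3 → F) := Submodule.span F {x | ∃ η, Root P E x η}
  have hCtop : C = ⊤ := by
    have hC : Invariant P C := by
      intro g hg x hx
      induction hx using Submodule.span_induction with
      | mem y hy =>
        obtain ⟨η, hη⟩ := hy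
        exact Submodule.subset_span ⟨_, hη.conj hg⟩
      | zero => rw [mulVec_zero]; exact zero_mem _
      | add y y' _ _ hy hy' => rw [mulVec_add]; exact add_mem hy hy'
      | smul c y _ hy => rw [mulVec_smul]; exact Submodule.smul_mem _ c hy
    refine (hP.irred C hC).resolve_left fun h => ha.1 ((Submodule.mem_bot F).mp ?_)
    exact h ▸ Submodule.subset_span ⟨α, ha⟩
  have hnot : ∀ W : Submodule F (Fin 3 → F), W ≠ ⊤ → ∃ d χ, S d χ ∧ d ∉ W := by
    intro W hW
    by_contra hall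
    push Not at hall
    refine hW (eq_top_iff.mpr (hCtop ▸ Submodule.span_le.mpr ?_))
    rintro u ⟨η, hu⟩
    obtain ⟨d, χ, e, -, hd, -, l, rfl⟩ := hgen hu
    exact W.smul_mem l (hall d χ hd)
  obtain ⟨b, β, hb, hbn⟩ := hnot (Submodule.span F {a}) (fun h => by
    have := congrArg (fun W : Submodule F (Fin 3 → F) => Module.finrank F W) h
    rw [finrank_span_singleton ha.1, finrank_top, Module.finrank_fin_fun] at this
    omega)
  obtain ⟨c, γ, hc, hcn⟩ := hnot (Submodule.span F {b, a}) (fun h => by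
    have h1 := finrank_span_finset_le_card (R := F) ({b, a} : Finset (Fin 3 → F))
    rw [Set.finrank, Finset.coe_insert, Finset.coe_singleton, h, finrank_top, Module.finrank_fin_fun] at h1
    exact absurd (h1.trans Finset.card_le_two) (by norm_num))
  let Bv : Fin 3 → Fin 3 → F := ![c, b, a]
  let Bx : Fin 3 → Fin 3 → F := ![γ, β, α]
  have hBS : ∀ j, S (Bv j) (Bx j) := by
    intro j; fin_cases j
    · exact hc
    · exact hb
    · exact haS
  have hli : LinearIndependent F Bv := by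
    refine linearIndependent_finCons.mpr ⟨linearIndependent_finCons.mpr ⟨?_, ?_⟩, ?_⟩
    · rw [linearIndependent_unique_iff]; exact ha.1
    · rwa [Matrix.range_cons, Matrix.range_empty, Set.union_empty]
    · rwa [Matrix.range_cons_cons_empty]
  have hker : ∀ x : Fin 3 → F, (∀ j, Bx j ⬝ᵥ x = 0) → x = 0 := by
    intro x hx
    have hS0 : ∀ {d χ}, S d χ → χ ⬝ᵥ x = 0 := by
      intro d χ hd
      have hs := hli.span_eq_top_of_card_eq_finrank (by simp)
      obtain ⟨g, hg⟩ := (Submodule.mem_span_range_iff_exists_fun F).mp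
        (show x ∈ Submodule.span F (Set.range Bv) from hs ▸ Submodule.mem_top)
      have e1 : χ ⬝ᵥ x = ∑ j, g j * (χ ⬝ᵥ Bv j) := by
        rw [← hg, dotProduct_sum]
        exact Finset.sum_congr rfl fun j _ => dotProduct_smul _ _ _
      have e2 : χ ⬝ᵥ x = ∑ j, g j * σ₀ (Bx j ⬝ᵥ d) := by
        rw [e1]; exact Finset.sum_congr rfl fun j _ => by rw [hsym (hBS j) hd]
      have hd' : ∃ r : Fin 3 → F, d = ∑ i, r i • Bv i := by
        obtain ⟨r, hr⟩ := (Submodule.mem_span_range_iff_exists_fun F).mp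
          (show d ∈ Submodule.span F (Set.range Bv) from hs ▸ Submodule.mem_top)
        exact ⟨r, hr.symm⟩
      obtain ⟨r, hr⟩ := hd'
      have e3 : χ ⬝ᵥ x = ∑ i, σ₀ (r i) * (Bx i ⬝ᵥ x) := by
        rw [e2]
        have : ∀ j, σ₀ (Bx j ⬝ᵥ d) = ∑ i, σ₀ (r i) * (Bx i ⬝ᵥ Bv j) := fun j => by
          rw [hr, dotProduct_sum, map_sum]
          exact Finset.sum_congr rfl fun i _ => by
            rw [dotProduct_smul, smul_eq_mul, map_mul, hsym (hBS j) (hBS i)]
        simp only [this, Finset.mul_sum]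
        rw [Finset.sum_comm]
        refine Finset.sum_congr rfl fun i _ => ?_
        rw [← hg, dotProduct_sum, Finset.mul_sum]
        exact Finset.sum_congr rfl fun j _ => by rw [dotProduct_smul, smul_eq_mul]; ring
      rw [e3]
      exact Finset.sum_eq_zero fun i _ => by rw [hx i, mul_zero]
    by_contra hx0
    let W : Submodule F (Fin 3 → F) :=
      { carrier := {y | ∀ d χ, S d χ → χ ⬝ᵥ y = 0}
        add_mem' := fun {y z} hy hz d χ h => by rw [dotProduct_add, hy d χ h, hz d χ h, add_zero]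
        zero_mem' := fun d χ _ => dotProduct_zero χ
        smul_mem' := fun k y hy d χ h => by rw [dotProduct_smul, hy d χ h, smul_zero] }
    have hW : Invariant P W := by
      intro g hg y hy d χ h
      rw [dotProduct_mulVec]
      have hR := (hSroot h).conj (P.inv_mem hg)
      rw [inv_inv] at hR
      obtain ⟨d', χ', e, -, hd', htv, l, hl⟩ := hgen hR
      have h0 : χ' ⬝ᵥ y = 0 := hy d' χ' hd'
      have h1 := congrArg (fun t : GL (Fin 3) F => t.val *ᵥ y) htv
      simp only [tv_mulVec hR.dot, tv_mulVec (show (e • χ') ⬝ᵥ d' = 0 by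
        rw [smul_dotProduct, (hSroot hd').dot, smul_zero]), smul_dotProduct, h0, smul_zero, zero_smul,
        add_zero, add_eq_left] at h1
      exact (smul_eq_zero.mp h1).resolve_right hR.1
    rcases hP.irred W hW with h | h
    · exact hx0 ((Submodule.mem_bot F).mp (h ▸ fun d χ hd => hS0 hd))
    · exact ha.2.1 (funext fun i => by
        simpa using (show (Pi.single i 1 : Fin 3 → F) ∈ W from h ▸ Submodule.mem_top) a α haS)
  obtain ⟨U, hU⟩ : IsUnit (Matrix.of fun i j => Bv j i) := by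
    rw [← Matrix.linearIndependent_cols_iff_isUnit]
    exact hli
  have hexp : ∀ x : Fin 3 → F, x = ∑ i, ((U⁻¹).val i ⬝ᵥ x) • Bv i := by
    intro x
    conv_lhs => rw [← gl_mulVec_inv U x]
    funext k
    rw [hU]
    simp [Matrix.mulVec, dotProduct, mul_comm]
  have hcols : ∀ j, (fun k => U.val k j) = Bv j := fun j => by rw [hU]; rfl
  have hcl : P ≤ Subgroup.closure {g | ∃ d χ, ∃ e ∈ E, S d χ ∧ g = tv d (e • χ)} := by
    refine (hP.le_closure (S := {g | ∃ u η, Root P E u η ∧ g = tv u η}) ?_ ?_ ?_).trans ?_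
    · rintro _ ⟨u, η, hR, rfl⟩; exact hR.tv.2
    · rintro g hg _ ⟨u, η, hR, rfl⟩
      exact ⟨_, _, hR.conj hg, conj_tv g hR.dot⟩
    · exact ⟨_, ⟨a, α, ha, rfl⟩, tv_not_scalar ha.1 ha.2.1 ha.dot⟩
    · refine Subgroup.closure_mono ?_
      rintro _ ⟨u, η, hR, rfl⟩
      obtain ⟨d, χ, e, he, hd, htv, -⟩ := hgen hR
      exact ⟨d, χ, e, he, hd, htv⟩
  right
  by_cases hinv : ∀ x : F, σ₀ (σ₀ x) = x
  · -- a unitary form
    right
    let σ : F ≃+* F := RingEquiv.ofBijective σ₀ (Finite.injective_iff_bijective.mp σ₀.injective)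
    have hσ : ∀ x, σ x = σ₀ x := fun x => rfl
    let f : (Fin 3 → F) → (Fin 3 → F) → F := fun x y => ∑ i, σ₀ ((U⁻¹).val i ⬝ᵥ y) * (Bx i ⬝ᵥ x)
    have hfd : ∀ {d χ}, S d χ → ∀ x, f x d = χ ⬝ᵥ x := by
      intro d χ hd x
      have e1 : χ ⬝ᵥ x = ∑ j, ((U⁻¹).val j ⬝ᵥ x) * (χ ⬝ᵥ Bv j) := by
        conv_lhs => rw [hexp x]
        rw [dotProduct_sum]
        exact Finset.sum_congr rfl fun j _ => dotProduct_smul _ _ _
      have e2 : ∀ i, Bx i ⬝ᵥ x = ∑ j, ((U⁻¹).val j ⬝ᵥ x) * (Bx i ⬝ᵥ Bv j) := fun i => by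
        conv_lhs => rw [hexp x]
        rw [dotProduct_sum]
        exact Finset.sum_congr rfl fun j _ => dotProduct_smul _ _ _
      rw [e1]
      show ∑ i, σ₀ ((U⁻¹).val i ⬝ᵥ d) * (Bx i ⬝ᵥ x) = _
      simp only [e2, Finset.mul_sum]
      rw [Finset.sum_comm]
      refine Finset.sum_congr rfl fun j _ => ?_
      rw [← hsym (hBS j) hd]
      conv_rhs => rw [hexp d, dotProduct_sum, map_sum, Finset.mul_sum]
      exact Finset.sum_congr rfl fun i _ => by
        rw [dotProduct_smul, smul_eq_mul, map_mul, hsym (hBS j) (hBS i)]; ring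
    have hadd : ∀ x x' y, f (x + x') y = f x y + f x' y := fun x x' y => by
      simp only [f, dotProduct_add, mul_add, Finset.sum_add_distrib]
    have hsm : ∀ (k : F) x y, f (k • x) y = k * f x y := fun k x y => by
      simp only [f, dotProduct_smul, smul_eq_mul, Finset.mul_sum]
      exact Finset.sum_congr rfl fun i _ => by ring
    have hherm : ∀ x y, f x y = σ₀ (f y x) := by
      intro x y
      show ∑ i, σ₀ ((U⁻¹).val i ⬝ᵥ y) * (Bx i ⬝ᵥ x) = σ₀ (∑ j, σ₀ ((U⁻¹).val j ⬝ᵥ x) * (Bx j ⬝ᵥ y))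
      rw [map_sum]
      have e1 : ∀ i, Bx i ⬝ᵥ x = ∑ j, ((U⁻¹).val j ⬝ᵥ x) * (Bx i ⬝ᵥ Bv j) := fun i => by
        conv_lhs => rw [hexp x]
        rw [dotProduct_sum]
        exact Finset.sum_congr rfl fun j _ => dotProduct_smul _ _ _
      simp only [e1, Finset.mul_sum]
      rw [Finset.sum_comm]
      refine Finset.sum_congr rfl fun j _ => ?_
      rw [map_mul, hinv]
      conv_rhs => rw [hexp y, dotProduct_sum, map_sum, Finset.mul_sum]
      exact Finset.sum_congr rfl fun i _ => by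
        rw [dotProduct_smul, smul_eq_mul, map_mul, hsym (hBS j) (hBS i)]; ring
    have hne : ∀ v : Fin 3 → F, v ≠ 0 → ∃ x, f v x ≠ 0 := by
      intro v hv
      by_contra hall
      push Not at hall
      exact hv (hker v fun j => by rw [← hfd (hBS j)]; exact hall _)
    refine ⟨σ, f, ⟨?_, hinv, hadd, hsm, hherm, fun v hv => ⟨?_, hne v hv⟩⟩, ?_⟩
    · intro h
      have hNb : Nd b β := hb.resolve_left fun e => hbn (by rw [e.1]; exact Submodule.mem_span_singleton_self a)
      have hNc : Nd c γ := hc.resolve_left fun e => hcn (by rw [e.1]; exact Submodule.subset_span (by simp))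
      refine hnotE hNb hNc (fun x y e => hcn ?_) ((hσE _).mpr (RingEquiv.congr_fun h _))
      rw [e]
      exact add_mem (Submodule.smul_mem _ _ (Submodule.subset_span (by simp)))
        (Submodule.smul_mem _ _ (Submodule.subset_span (by simp)))
    · obtain ⟨x, hx⟩ := hne v hv
      exact ⟨x, fun h => hx (by rw [hherm, h, map_zero])⟩
    · intro s hs u v
      obtain ⟨g, hg, rfl⟩ := mem_matrixSet.mp hs
      have hright : ∀ x y (k : F) z, f x (y + k • z) = f x y + σ₀ k * f x z := by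
        intro x y k z
        rw [hherm, hadd, hsm, map_add, map_mul, ← hherm, ← hherm]
      have hg' := hcl hg
      clear hs hg
      induction hg' using Subgroup.closure_induction generalizing u v with
      | mem t ht =>
        obtain ⟨d, χ, e, he, hd, rfl⟩ := ht
        have h0 : (e • χ) ⬝ᵥ d = 0 := by rw [smul_dotProduct, (hSroot hd).dot, smul_zero]
        rw [tv_mulVec h0, tv_mulVec h0, hright, hadd, hsm, hadd, hsm, hfd hd, hfd hd, (hSroot hd).dot,
          hherm d v, hfd hd, smul_dotProduct, smul_dotProduct, smul_eq_mul, smul_eq_mul, map_mul,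
          (hσE e).mp he]
        linear_combination (e * (χ ⬝ᵥ u) * σ₀ (χ ⬝ᵥ v)) * h2
      | one => simp
      | mul t t' _ _ h h' => rw [gl_mul_mulVec, gl_mul_mulVec, h, h']
      | inv t _ h =>
        have := h ((t⁻¹).val *ᵥ u) ((t⁻¹).val *ᵥ v)
        rw [gl_mulVec_inv, gl_mulVec_inv] at this
        exact this.symm
  · -- a proper subfield
    left
    set E2 := fixedField (F := F) p (2 * e) with hE2
    have hmem : ∀ x : F, x ∈ E2 ↔ σ₀ (σ₀ x) = x := fun x => by
      rw [hE2, mem_fixedField, hσ₀, frob_apply, frob_apply, ← pow_mul, ← pow_add, two_mul]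
    refine ⟨E2, fun h => hinv fun x => (hmem x).mp (h ▸ Subfield.mem_top x), U⁻¹, fun s hs i j => ?_⟩
    obtain ⟨g, hg, rfl⟩ := mem_matrixSet.mp hs
    have hB2 : ∀ {d χ}, S d χ → ∀ i, ((U⁻¹).val i ⬝ᵥ d) ∈ E2 := by
      intro d χ hd i
      let G₀ : Matrix (Fin 3) (Fin 3) E2 :=
        Matrix.of fun i j => ⟨Bx i ⬝ᵥ Bv j, (hmem _).mpr (hdd (hBS i) (hBS j))⟩
      set G : Matrix (Fin 3) (Fin 3) F := G₀.map E2.subtype with hG
      have hGv : ∀ x : Fin 3 → F, G *ᵥ (fun j => (U⁻¹).val j ⬝ᵥ x) = fun i => Bx i ⬝ᵥ x := fun x => by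
        funext i
        conv_rhs => rw [hexp x, dotProduct_sum]
        show ∑ j, (Bx i ⬝ᵥ Bv j) * ((U⁻¹).val j ⬝ᵥ x) = _
        exact Finset.sum_congr rfl fun j _ => by rw [dotProduct_smul, smul_eq_mul, mul_comm]
      have hGu : IsUnit G := by
        rw [← Matrix.mulVec_injective_iff_isUnit]
        intro r r' h
        have hr : ∀ r : Fin 3 → F, (fun j => (U⁻¹).val j ⬝ᵥ (U.val *ᵥ r)) = r := fun r => by
          funext j
          exact congrFun (gl_inv_mulVec U r) j
        rw [← hr r, ← hr r', hGv, hGv] at h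
        have := hker (U.val *ᵥ r - U.val *ᵥ r') fun j => by
          rw [dotProduct_sub, congrFun h j, sub_self]
        exact gl_mulVec_injective U (sub_eq_zero.mp this)
      have hG0 : IsUnit G₀ := by
        rw [Matrix.isUnit_iff_isUnit_det, isUnit_iff_ne_zero] at hGu ⊢
        intro h
        apply hGu
        rw [hG, ← RingHom.mapMatrix_apply, ← RingHom.map_det, h, map_zero]
      obtain ⟨G', hG'⟩ := hG0
      have h3 : G'⁻¹.val.map E2.subtype * G = 1 := by
        rw [hG, ← hG', ← Matrix.map_mul, Units.inv_mul, Matrix.map_one _ (map_zero _) (map_one _)]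
      have h4 := congrArg (G'⁻¹.val.map E2.subtype *ᵥ ·) (hGv d)
      simp only [Matrix.mulVec_mulVec, h3, Matrix.one_mulVec] at h4
      rw [congrFun h4 i]
      simp only [Matrix.mulVec, dotProduct]
      exact sum_mem fun k _ => mul_mem (SetLike.coe_mem _) ((hmem _).mpr (hdd (hBS k) hd))
    have hle : P ≤ ratGroup E2 U := by
      refine hcl.trans ((Subgroup.closure_le _).mpr ?_)
      rintro _ ⟨d, χ, e', he', hd, rfl⟩
      refine tv_mem_ratGroup (by rw [smul_dotProduct, (hSroot hd).dot, smul_zero]) fun i j => ?_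
      rw [hcols, smul_dotProduct, smul_eq_mul]
      refine mul_mem (hB2 hd i) (mul_mem ((hmem _).mpr ?_) ((hmem _).mpr (hdd hd (hBS j))))
      rw [(hσE e').mp he', (hσE e').mp he']
    have h := entries_of_mem_ratGroup (hle hg) i j
    rw [Units.val_mul, Units.val_mul] at h
    rwa [inv_inv]

end Cfsg.Agent.Lib.Mitchell96
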